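import Groth.Agent.Props12.KerReduced
import Groth.Agent.H8Top.Noetherian
import Groth.Agent.H8ProCons.Image
import Mathlib.AlgebraicGeometry.Noetherian

/-!
# Constructibility from generic behaviour on integral closed subschemes (EGA IV 9.2.3)
-/

set_option autoImplicit false
set_option backward.isDefEq.respectTransparency.types false

universe u

open CategoryTheory CategoryTheory.Limits AlgebraicGeometry Topology TopologicalSpace

namespace Groth.Agent.ConsPropLib

variable {S : Scheme.{u}}

/-- An irreducible closed set is the image of an integral closed subscheme. -/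
theorem exists_integral_closed [IsNoetherian S] {Z : Set S} (hZ : IsClosed Z) (hi : IsIrreducible Z) :
    ∃ (S' : Scheme.{u}) (i : S' ⟶ S), IsClosedImmersion i ∧ IsIntegral S' ∧ IsNoetherian S' ∧
      Set.range i = Z := by
  let I := Scheme.IdealSheafData.vanishingIdeal (X := S) ⟨Z, hZ⟩
  have hr : Set.range I.subschemeι = Z := by
    rw [Scheme.IdealSheafData.range_subschemeι, Scheme.IdealSheafData.coe_support_vanishingIdeal]
    rfl
  have : IsReduced I.subscheme := Props12.isReduced_subscheme_vanishingIdeal _
  have : IrreducibleSpace I.subscheme := by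
    rw [← hr] at hi
    have := Subtype.irreducibleSpace hi
    exact I.subschemeι.isEmbedding.toHomeomorph.symm.surjective.irreducibleSpace
      I.subschemeι.isEmbedding.toHomeomorph.symm.continuous
  have := LocallyOfFiniteType.isLocallyNoetherian I.subschemeι
  have : CompactSpace I.subscheme := QuasiCompact.compactSpace_of_compactSpace I.subschemeι
  exact ⟨I.subscheme, I.subschemeι, inferInstance,
    isIntegral_of_irreducibleSpace_of_isReduced _, ⟨⟩, hr⟩

/-- An open subset of an integral closed subscheme is the trace of an open subset. -/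
theorem exists_open_inter_subset {S' : Scheme.{u}} (i : S' ⟶ S) [IsClosedImmersion i] {E : Set S}
    {V : Set S'} (hV : IsOpen V) (hsub : V ⊆ i ⁻¹' E) :
    ∃ U : Set S, IsOpen U ∧ i ⁻¹' U = V ∧ U ∩ Set.range i ⊆ E := by
  obtain ⟨U, hU, rfl⟩ := i.isEmbedding.isInducing.isOpen_iff.1 hV
  refine ⟨U, hU, rfl, ?_⟩
  rintro _ ⟨hx, w, rfl⟩
  exact hsub hx

/-- A set is constructible when on every integral closed subscheme it or its complement has
nonempty interior. -/
theorem isConstructible_of_generic [IsNoetherian S] (E : Set S)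
    (h : ∀ ⦃S' : Scheme.{u}⦄ (i : S' ⟶ S) [IsClosedImmersion i] [IsIntegral S'] [IsNoetherian S'],
      (interior (i ⁻¹' E)).Nonempty ∨ (interior (i ⁻¹' E)ᶜ).Nonempty) :
    IsConstructible E := by
  refine (H8Top.isConstructible_iff_forall_irreducible_closed E).2 fun Y hY hYi => ?_
  obtain ⟨S', i, _, _, _, rfl⟩ := exists_integral_closed hY hYi
  rcases h i with ⟨v, hv⟩ | ⟨v, hv⟩
  · obtain ⟨U, hU, hUV, hsub⟩ := exists_open_inter_subset i isOpen_interior interior_subset
    exact Or.inr ⟨U, hU, ⟨i v, show v ∈ i ⁻¹' U by rw [hUV]; exact hv, v, rfl⟩, hsub⟩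
  · left
    obtain ⟨U, hU, hUV, hsub⟩ := exists_open_inter_subset i (E := Eᶜ) isOpen_interior interior_subset
    rcases H8Top.isNowhereDense_preimage_val_or_dense (E := E) hYi with hnd | hd
    · exact hnd
    · exfalso
      have hne : (U ∩ Set.range i).Nonempty := ⟨i v, show v ∈ i ⁻¹' U by rw [hUV]; exact hv, v, rfl⟩
      obtain ⟨y, hy⟩ := hne
      obtain ⟨z, hzU, hzE, hzY⟩ := mem_closure_iff.1 (hd hy.2) U hU hy.1
      exact hsub ⟨hzU, hzY⟩ hzE

/-- A set is ind-constructible when on every integral closed subscheme whose generic point it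
contains it has nonempty interior. -/
theorem isIndConstructible_of_generic [IsNoetherian S] (E : Set S)
    (h : ∀ ⦃S' : Scheme.{u}⦄ (i : S' ⟶ S) [IsClosedImmersion i] [IsIntegral S'] [IsNoetherian S'],
      i (genericPoint S') ∈ E → (interior (i ⁻¹' E)).Nonempty) :
    ProCons.IsIndConstructible E := by
  refine H8ProCons.isIndConstructible_of_forall_nhd fun x hx => ?_
  obtain ⟨S', i, _, _, _, hr⟩ := exists_integral_closed (S := S) (isClosed_closure (s := {x}))
    isIrreducible_singleton.closure
  have hgen : i (genericPoint S') = x := by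
    have h1 : IsGenericPoint (i (genericPoint S')) (Set.range i) := by
      have := (genericPoint_spec S').image i.continuous
      rwa [Set.image_univ, i.isClosedEmbedding.isClosed_range.closure_eq] at this
    rw [hr] at h1
    exact h1.eq isGenericPoint_closure
  obtain ⟨v, hv⟩ := h i (by rw [hgen]; exact hx)
  obtain ⟨U, hU, hUV, hsub⟩ := exists_open_inter_subset i isOpen_interior interior_subset
  obtain ⟨_, ⟨W, hW, rfl⟩, hxW, -⟩ :=
    S.isBasis_affineOpens.exists_subset_of_mem_open (Set.mem_univ x) isOpen_univ
  have : NoetherianSpace (W : Set S) := inferInstance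
  refine ⟨W, hW, Subtype.val ⁻¹' (U ∩ Set.range i),
    H8Top.isConstructible_of_isLocallyClosed
      ((hU.isLocallyClosed.inter i.isClosedEmbedding.isClosed_range.isLocallyClosed).preimage
        continuous_subtype_val), ⟨⟨x, hxW⟩, ⟨?_, hr.ge (subset_closure rfl)⟩, rfl⟩, ?_⟩
  · have : genericPoint S' ∈ i ⁻¹' U := by
      rw [hUV]; exact (genericPoint_specializes v).mem_open isOpen_interior hv
    show x ∈ U
    rw [← hgen]; exact this
  · rintro _ ⟨w, hw, rfl⟩
    exact hsub hw

end Groth.Agent.ConsPropLib
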