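import Groth.Agent.H8Lim.Constructible
import Groth.Agent.H8ProCons.Image
import Mathlib.AlgebraicGeometry.Noetherian

/-!
# Constructibility is local and may be pulled back from noetherian models
-/

set_option autoImplicit false
set_option backward.isDefEq.respectTransparency.types false

universe u

open CategoryTheory CategoryTheory.Limits AlgebraicGeometry Topology TopologicalSpace

namespace Groth.Agent.ConsPropLib

/-- A subset is locally constructible when it is locally a preimage of one on a model. -/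
theorem isLocallyConstructible_of_models {S : Scheme.{u}} (E : Set S)
    (h : ∀ (A : CommRingCat.{u}) (j : Spec A ⟶ S) [IsOpenImmersion j],
      ∃ (S₀ : Scheme.{u}) (r : Spec A ⟶ S₀) (E₀ : Set S₀),
        IsLocallyConstructible E₀ ∧ j ⁻¹' E = r ⁻¹' E₀) :
    IsLocallyConstructible E := by
  refine .of_isOpenCover (U := fun i : S.affineCover.I₀ => (S.affineCover.f i).opensRange)
    S.affineCover.iSup_opensRange fun i => ?_
  obtain ⟨S₀, r, E₀, hE₀, e⟩ := @h _ (S.affineCover.f i) (S.affineCover.map_prop i)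
  let φ := (Scheme.Hom.isoOpensRange (S.affineCover.f i))
  have h1 := H8Lim.isLocallyConstructible_preimage φ.inv (e.symm ▸ H8Lim.isLocallyConstructible_preimage r hE₀)
  have h2 : φ.inv ≫ S.affineCover.f i = (S.affineCover.f i).opensRange.ι := by
    rw [Iso.inv_comp_eq]
    exact ((S.affineCover.f i).isoOpensRange_hom_ι).symm
  have e2 : φ.inv ⁻¹' (S.affineCover.f i ⁻¹' E) = (S.affineCover.f i).opensRange.ι ⁻¹' E := by
    rw [← h2]; rfl
  exact (congrArg IsLocallyConstructible e2).mp h1

/-- A subset is ind-constructible when it is locally a preimage of one on a model. -/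
theorem isIndConstructible_of_models {S : Scheme.{u}} (E : Set S)
    (h : ∀ (A : CommRingCat.{u}) (j : Spec A ⟶ S) [IsOpenImmersion j],
      ∃ (S₀ : Scheme.{u}) (r : Spec A ⟶ S₀) (E₀ : Set S₀),
        ProCons.IsIndConstructible E₀ ∧ j ⁻¹' E = r ⁻¹' E₀) :
    ProCons.IsIndConstructible E := by
  refine H8ProCons.isIndConstructible_of_forall_nhd fun x hx => ?_
  obtain ⟨i, y, rfl⟩ := S.affineCover.exists_eq x
  obtain ⟨S₀, r, E₀, hE₀, e⟩ := @h _ (S.affineCover.f i) (S.affineCover.map_prop i)
  have h1 : ProCons.IsIndConstructible (S.affineCover.f i '' (S.affineCover.f i ⁻¹' E)) :=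
    H8ProCons.isIndConstructible_image _ (e.symm ▸ H8ProCons.isIndConstructible_preimage r hE₀)
  obtain ⟨_, ⟨W, hW, rfl⟩, hxW, -⟩ := S.isBasis_affineOpens.exists_subset_of_mem_open
    (Set.mem_univ (S.affineCover.f i y)) isOpen_univ
  obtain ⟨C, hC, hxC, hsub⟩ := H8ProCons.exists_constructible_nhd h1 hW hxW ⟨y, hx, rfl⟩
  refine ⟨W, hW, C, hC, ⟨_, hxC, rfl⟩, ?_⟩
  rintro _ ⟨w, hw, rfl⟩
  exact Set.image_preimage_subset _ _ (hsub hw)

end Groth.Agent.ConsPropLib
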