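import Groth.Prelude.Def_W4ega4s0809p4Pair
import Groth.Agent.ConsPropLib.GenericCriterion
import Groth.Agent.ConsPropLib.Local
import Groth.Agent.H8Lim.NoetherianModel
import Groth.Agent.H8Lim.HomDescent
import Groth.Agent.EGA43.Cons.Topological
import Groth.Agent.EGA43.Limit.Basic

/-!
# Loci of constructible properties: compatibility with base change and constructibility (EGA IV 9.3.3)
-/

set_option autoImplicit false
set_option backward.isDefEq.respectTransparency.types false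

universe u

open CategoryTheory CategoryTheory.Limits AlgebraicGeometry Opposite

namespace Groth.Agent.ConsPropLib

variable {X Y S X' Y' S' : Scheme.{u}}

instance (u : X ⟶ S) [LocallyOfFiniteType u] (s : S) : LocallyOfFiniteType (u.fiberToSpecResidueField s) :=
  MorphismProperty.pullback_snd (P := @LocallyOfFiniteType) _ _ inferInstance

instance (u : X ⟶ S) [QuasiCompact u] (s : S) : QuasiCompact (u.fiberToSpecResidueField s) :=
  MorphismProperty.pullback_snd (P := @QuasiCompact) _ _ inferInstance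

theorem exists_lift_square {W T T' X₀ : Scheme.{u}} {a : W ⟶ X₀} {b : W ⟶ T'} {u : X₀ ⟶ S} {m : T' ⟶ T}
    {k : T ⟶ S} (big : IsPullback a b u (m ≫ k)) :
    ∃ l : W ⟶ pullback u k, IsPullback l b (pullback.snd u k) m ∧ l ≫ pullback.fst u k = a := by
  refine ⟨pullback.lift a (b ≫ m) (big.w.trans (Category.assoc _ _ _).symm), ?_, pullback.lift_fst _ _ _⟩
  exact IsPullback.of_right (by rw [pullback.lift_fst]; exact big) (pullback.lift_snd _ _ _)
    (IsPullback.of_hasPullback u k)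

/-- The map between fibres of a base change. -/
theorem exists_fibre_square {u' : X' ⟶ S'} {u : X ⟶ S} {q : X' ⟶ X} {r : S' ⟶ S}
    (sq : IsPullback q u' u r) (s' : S') :
    ∃ l : u'.fiber s' ⟶ u.fiber (r s'),
      IsPullback l (u'.fiberToSpecResidueField s') (u.fiberToSpecResidueField (r s'))
        (Spec.map (r.residueFieldMap s')) ∧ l ≫ u.fiberι (r s') = u'.fiberι s' ≫ q := by
  have big := (IsPullback.of_hasPullback u' (S'.fromSpecResidueField s')).paste_horiz sq
  rw [← Scheme.Hom.SpecMap_residueFieldMap_fromSpecResidueField r s'] at big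
  exact exists_lift_square big

theorem fiberMap_isPullback (f : X ⟶ Y) (g : Y ⟶ S) (s : S) :
    IsPullback ((f ≫ g).fiberι s) (MoreMor.fiberMap f g s) f (g.fiberι s) :=
  EGA43.Cons.fibre_isPullback f g (S.fromSpecResidueField s)

theorem fiberMap_comp (f : X ⟶ Y) (g : Y ⟶ S) (s : S) :
    MoreMor.fiberMap f g s ≫ g.fiberToSpecResidueField s = (f ≫ g).fiberToSpecResidueField s :=
  pullback.lift_snd _ _ _

theorem locus_preimage {P : ∀ ⦃Y T : Scheme.{u}⦄, (Y ⟶ T) → Prop} (hP : ConsProp.IsFieldStable P)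
    {u' : X' ⟶ S'} {u : X ⟶ S} [LocallyOfFiniteType u] [QuasiCompact u] {q : X' ⟶ X} {r : S' ⟶ S}
    (sq : IsPullback q u' u r) : ConsProp.locus P u' = r ⁻¹' ConsProp.locus P u := by
  ext s'
  obtain ⟨l, hl, -⟩ := exists_fibre_square sq s'
  exact (hP _ _ l _ hl).symm

theorem locusMor_preimage {P : ∀ ⦃X Y T : Scheme.{u}⦄, (X ⟶ Y) → (Y ⟶ T) → Prop}
    (hP : ConsProp.IsFieldStableMor P) {f : X ⟶ Y} {g : Y ⟶ S} {f' : X' ⟶ Y'} {g' : Y' ⟶ S'}
    [LocallyOfFiniteType g] [QuasiCompact g] [LocallyOfFiniteType (f ≫ g)] [QuasiCompact (f ≫ g)]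
    {qY : Y' ⟶ Y} {qX : X' ⟶ X} {r : S' ⟶ S}
    (hY : IsPullback qY g' g r) (hX : IsPullback qX f' f qY) :
    ConsProp.locusMor P f' g' = r ⁻¹' ConsProp.locusMor P f g := by
  ext s'
  obtain ⟨lY, hlY, eY⟩ := exists_fibre_square hY s'
  obtain ⟨lX, hlX, eX⟩ := exists_fibre_square (hX.paste_vert hY) s'
  have w : MoreMor.fiberMap f' g' s' ≫ lY = lX ≫ MoreMor.fiberMap f g (r s') := by
    apply pullback.hom_ext
    · show (MoreMor.fiberMap f' g' s' ≫ lY) ≫ g.fiberι (r s') =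
        (lX ≫ MoreMor.fiberMap f g (r s')) ≫ g.fiberι (r s')
      rw [Category.assoc, eY, Category.assoc, ← (fiberMap_isPullback f g (r s')).w,
        ← Category.assoc, ← (fiberMap_isPullback f' g' s').w, Category.assoc, hX.w.symm,
        reassoc_of% eX]
    · show (MoreMor.fiberMap f' g' s' ≫ lY) ≫ g.fiberToSpecResidueField (r s') =
        (lX ≫ MoreMor.fiberMap f g (r s')) ≫ g.fiberToSpecResidueField (r s')
      rw [Category.assoc, hlY.w, reassoc_of% (fiberMap_comp f' g' s'), Category.assoc,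
        fiberMap_comp, hlX.w]
  have hsqX : IsPullback lX (MoreMor.fiberMap f' g' s') (MoreMor.fiberMap f g (r s')) lY := by
    refine IsPullback.of_bot ?_ w.symm hlY
    rw [fiberMap_comp, fiberMap_comp]
    exact hlX
  have : LocallyOfFiniteType (MoreMor.fiberMap f g (r s') ≫ g.fiberToSpecResidueField (r s')) := by
    rw [fiberMap_comp]; infer_instance
  have : QuasiCompact (MoreMor.fiberMap f g (r s') ≫ g.fiberToSpecResidueField (r s')) := by
    rw [fiberMap_comp]; infer_instance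
  exact (hP (MoreMor.fiberMap f g (r s')) _ _ _ lX lY _ hlY hsqX).symm

theorem locusPair_preimage {P : ∀ ⦃X Y T : Scheme.{u}⦄, (X ⟶ T) → (Y ⟶ T) → Prop}
    (hP : ConsPropPair.IsFieldStablePair P) {u' : X' ⟶ S'} {v' : Y' ⟶ S'} {u : X ⟶ S} {v : Y ⟶ S}
    [LocallyOfFiniteType u] [QuasiCompact u] [LocallyOfFiniteType v] [QuasiCompact v]
    {qX : X' ⟶ X} {qY : Y' ⟶ Y} {r : S' ⟶ S}
    (hX : IsPullback qX u' u r) (hY : IsPullback qY v' v r) :
    ConsPropPair.locusPair P u' v' = r ⁻¹' ConsPropPair.locusPair P u v := by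
  ext s'
  obtain ⟨lX, hlX, -⟩ := exists_fibre_square hX s'
  obtain ⟨lY, hlY, -⟩ := exists_fibre_square hY s'
  exact (hP _ _ _ _ lX lY _ hlX hlY).symm

/-! ### Over a noetherian base -/

theorem isConstructible_locus {P : ∀ ⦃Y T : Scheme.{u}⦄, (Y ⟶ T) → Prop} (hP : ConsProp.IsCons P)
    [IsNoetherian S] (u : X ⟶ S) [LocallyOfFiniteType u] [QuasiCompact u] :
    Topology.IsConstructible (ConsProp.locus P u) :=
  isConstructible_of_generic _ fun S' i _ _ _ => by
    rw [← locus_preimage hP.1 (IsPullback.of_hasPullback u i)]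
    exact hP.2 _

theorem isIndConstructible_locus {P : ∀ ⦃Y T : Scheme.{u}⦄, (Y ⟶ T) → Prop}
    (hP : ConsProp.IsIndCons P) [IsNoetherian S] (u : X ⟶ S) [LocallyOfFiniteType u]
    [QuasiCompact u] : ProCons.IsIndConstructible (ConsProp.locus P u) :=
  isIndConstructible_of_generic _ fun S' i _ _ _ h => by
    rw [← locus_preimage hP.1 (IsPullback.of_hasPullback u i)]
    refine hP.2 _ ?_
    rw [locus_preimage hP.1 (IsPullback.of_hasPullback u i)]
    exact h

theorem isPullback_fst_comp (f : X ⟶ Y) (g : Y ⟶ S) (i : S' ⟶ S) :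
    IsPullback (pullback.fst f (pullback.fst g i)) (pullback.snd f (pullback.fst g i)) f
      (pullback.fst g i) :=
  IsPullback.of_hasPullback _ _

theorem isConstructible_locusMor_noeth {P : ∀ ⦃X Y T : Scheme.{u}⦄, (X ⟶ Y) → (Y ⟶ T) → Prop}
    (hP : ConsProp.IsConsMor P) [IsNoetherian S] (f : X ⟶ Y) (g : Y ⟶ S) [LocallyOfFiniteType g]
    [QuasiCompact g] [LocallyOfFiniteType (f ≫ g)] [QuasiCompact (f ≫ g)] :
    Topology.IsConstructible (ConsProp.locusMor P f g) :=
  isConstructible_of_generic _ fun S' i _ _ _ => by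
    have hY := IsPullback.of_hasPullback g i
    have hX := isPullback_fst_comp f g i
    have := MorphismProperty.of_isPullback (hX.paste_vert hY) ‹LocallyOfFiniteType (f ≫ g)›
    have := MorphismProperty.of_isPullback (hX.paste_vert hY) ‹QuasiCompact (f ≫ g)›
    rw [← locusMor_preimage hP.1 hY hX]
    exact hP.2 _ _

theorem isIndConstructible_locusMor_noeth {P : ∀ ⦃X Y T : Scheme.{u}⦄, (X ⟶ Y) → (Y ⟶ T) → Prop}
    (hP : ConsProp.IsIndConsMor P) [IsNoetherian S] (f : X ⟶ Y) (g : Y ⟶ S) [LocallyOfFiniteType g]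
    [QuasiCompact g] [LocallyOfFiniteType (f ≫ g)] [QuasiCompact (f ≫ g)] :
    ProCons.IsIndConstructible (ConsProp.locusMor P f g) :=
  isIndConstructible_of_generic _ fun S' i _ _ _ h => by
    have hY := IsPullback.of_hasPullback g i
    have hX := isPullback_fst_comp f g i
    have := MorphismProperty.of_isPullback (hX.paste_vert hY) ‹LocallyOfFiniteType (f ≫ g)›
    have := MorphismProperty.of_isPullback (hX.paste_vert hY) ‹QuasiCompact (f ≫ g)›
    rw [← locusMor_preimage hP.1 hY hX]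
    refine hP.2 _ _ ?_
    rw [locusMor_preimage hP.1 hY hX]
    exact h

theorem isConstructible_locusPair_noeth {P : ∀ ⦃X Y T : Scheme.{u}⦄, (X ⟶ T) → (Y ⟶ T) → Prop}
    (hP : ConsPropPair.IsConsPair P) [IsNoetherian S] (u : X ⟶ S) (v : Y ⟶ S) [LocallyOfFiniteType u]
    [QuasiCompact u] [LocallyOfFiniteType v] [QuasiCompact v] :
    Topology.IsConstructible (ConsPropPair.locusPair P u v) :=
  isConstructible_of_generic _ fun S' i _ _ _ => by
    rw [← locusPair_preimage hP.1 (IsPullback.of_hasPullback u i) (IsPullback.of_hasPullback v i)]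
    exact hP.2 _ _

theorem isIndConstructible_locusPair_noeth {P : ∀ ⦃X Y T : Scheme.{u}⦄, (X ⟶ T) → (Y ⟶ T) → Prop}
    (hP : ConsPropPair.IsIndConsPair P) [IsNoetherian S] (u : X ⟶ S) (v : Y ⟶ S)
    [LocallyOfFiniteType u] [QuasiCompact u] [LocallyOfFiniteType v] [QuasiCompact v] :
    ProCons.IsIndConstructible (ConsPropPair.locusPair P u v) :=
  isIndConstructible_of_generic _ fun S' i _ _ _ h => by
    rw [← locusPair_preimage hP.1 (IsPullback.of_hasPullback u i) (IsPullback.of_hasPullback v i)]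
    refine hP.2 _ _ ?_
    rw [locusPair_preimage hP.1 (IsPullback.of_hasPullback u i) (IsPullback.of_hasPullback v i)]
    exact h

/-! ### Noetherian models -/

/-- A pair of finitely presented schemes over an affine base has a noetherian model. -/
theorem exists_model_pair {R : CommRingCat.{u}} (u : X ⟶ Spec R) (v : Y ⟶ Spec R)
    [LocallyOfFinitePresentation u] [QuasiCompact u] [QuasiSeparated u]
    [LocallyOfFinitePresentation v] [QuasiCompact v] [QuasiSeparated v] :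
    ∃ (S₀ X₀ Y₀ : Scheme.{u}) (r : Spec R ⟶ S₀) (u₀ : X₀ ⟶ S₀) (v₀ : Y₀ ⟶ S₀) (qX : X ⟶ X₀)
      (qY : Y ⟶ Y₀), IsNoetherian S₀ ∧ LocallyOfFinitePresentation u₀ ∧ QuasiCompact u₀ ∧
        LocallyOfFinitePresentation v₀ ∧ QuasiCompact v₀ ∧
        IsPullback qX u u₀ r ∧ IsPullback qY v v₀ r := by
  obtain ⟨jX, X₁, hX₁, qX₁, _, _, _, sX⟩ := H8Lim.exists_stage_spec (R := R) u
  obtain ⟨jY, Y₁, hY₁, qY₁, _, _, _, sY⟩ := H8Lim.exists_stage_spec (R := R) v
  obtain ⟨k, a, b, -⟩ := IsCofilteredOrEmpty.cone_objs jX jY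
  obtain ⟨X₀, u₀, qX, i1, i2, -, sX'⟩ := H8Lim.exists_later (D := H8Lim.fgSpecDiagram R) (c := H8Lim.fgSpecCone R) sX a
  obtain ⟨Y₀, v₀, qY, i3, i4, -, sY'⟩ := H8Lim.exists_later (D := H8Lim.fgSpecDiagram R) (c := H8Lim.fgSpecCone R) sY b
  exact ⟨_, X₀, Y₀, (H8Lim.fgSpecCone R).π.app k, u₀, v₀, qX, qY,
    inferInstanceAs (IsNoetherian (Spec (CommRingCat.of (H8Lim.fgSub R k.unop)))), i1, i2, i3, i4,
    sX', sY'⟩

theorem exists_model_mor_aux {I : Type u} [SmallCategory I] [IsCofiltered I] {D : I ⥤ Scheme.{u}}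
    {c : Cone D} (hc : IsLimit c) [∀ {i j : I} (a : i ⟶ j), IsAffineHom (D.map a)]
    (hN : ∀ i, IsNoetherian (D.obj i)) (f : X ⟶ Y) (g : Y ⟶ c.pt) {jX jY : I} {X₁ Y₁ : Scheme.{u}}
    {hX₁ : X₁ ⟶ D.obj jX} {hY₁ : Y₁ ⟶ D.obj jY} {qX₁ : X ⟶ X₁} {qY₁ : Y ⟶ Y₁}
    [LocallyOfFinitePresentation hX₁] [QuasiCompact hX₁] [QuasiSeparated hX₁]
    [LocallyOfFinitePresentation hY₁] [QuasiCompact hY₁] [QuasiSeparated hY₁]
    (sX : IsPullback qX₁ (f ≫ g) hX₁ (c.π.app jX)) (sY : IsPullback qY₁ g hY₁ (c.π.app jY)) :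
    ∃ (l : I) (X₀ Y₀ : Scheme.{u}) (f₀ : X₀ ⟶ Y₀) (g₀ : Y₀ ⟶ D.obj l) (qX : X ⟶ X₀)
      (qY : Y ⟶ Y₀), LocallyOfFinitePresentation g₀ ∧ QuasiCompact g₀ ∧
        LocallyOfFinitePresentation (f₀ ≫ g₀) ∧ QuasiCompact (f₀ ≫ g₀) ∧
        IsPullback qY g g₀ (c.π.app l) ∧ IsPullback qX f f₀ qY := by
  obtain ⟨k, a, b, -⟩ := IsCofilteredOrEmpty.cone_objs jX jY
  obtain ⟨Xk, uk, qXk, i1, i2, i2', sX'⟩ := H8Lim.exists_later sX a
  obtain ⟨Yk, vk, qYk, i3, i4, i4', sY'⟩ := H8Lim.exists_later sY b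
  have := hN k
  have : CompactSpace Xk := QuasiCompact.compactSpace_of_compactSpace uk
  have : QuasiSeparatedSpace Xk := quasiSeparatedSpace_of_quasiSeparated uk
  obtain ⟨l, φ, gl, sl, hgl, hsl1, hsl2, hsl3⟩ := H8Lim.exists_stage_hom (D := D) hc sX' (yi := vk)
    (f ≫ qYk) (by rw [Category.assoc, sY'.w, sX'.w]; simp only [Category.assoc])
  let f₀ : pullback uk (D.map φ) ⟶ pullback vk (D.map φ) :=
    pullback.lift gl (pullback.snd _ _) (by rw [hgl, pullback.condition])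
  have hf₀ : f₀ ≫ pullback.snd vk (D.map φ) = pullback.snd uk (D.map φ) := pullback.lift_snd _ _ _
  have hY := H8Lim.isPullback_later sY' φ (by rw [sY'.w, Category.assoc, c.w])
  have hX : IsPullback sl (f ≫ g) (pullback.snd uk (D.map φ)) (c.π.app l) :=
    IsPullback.of_right (by rw [hsl1, c.w]; exact sX') hsl2 (IsPullback.of_hasPullback _ _)
  refine ⟨l, _, _, f₀, pullback.snd vk (D.map φ), sl, _,
    MorphismProperty.pullback_snd (P := @LocallyOfFinitePresentation) _ _ i3,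
    MorphismProperty.pullback_snd (P := @QuasiCompact) _ _ i4,
    by rw [hf₀]; exact MorphismProperty.pullback_snd (P := @LocallyOfFinitePresentation) _ _ i1,
    by rw [hf₀]; exact MorphismProperty.pullback_snd (P := @QuasiCompact) _ _ i2,
    hY, IsPullback.of_bot (by rw [hf₀]; exact hX) ?_ hY⟩
  apply pullback.hom_ext
  · simp only [f₀, Category.assoc, pullback.lift_fst, hsl3]
  · simp only [f₀, Category.assoc, pullback.lift_snd, hsl2]

/-- A morphism of finitely presented schemes over an affine base has a noetherian model. -/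
theorem exists_model_mor {R : CommRingCat.{u}} (f : X ⟶ Y) (g : Y ⟶ Spec R)
    [LocallyOfFinitePresentation g] [QuasiCompact g] [QuasiSeparated g]
    [LocallyOfFinitePresentation (f ≫ g)] [QuasiCompact (f ≫ g)] [QuasiSeparated (f ≫ g)] :
    ∃ (S₀ X₀ Y₀ : Scheme.{u}) (r : Spec R ⟶ S₀) (f₀ : X₀ ⟶ Y₀) (g₀ : Y₀ ⟶ S₀) (qX : X ⟶ X₀)
      (qY : Y ⟶ Y₀), IsNoetherian S₀ ∧ LocallyOfFinitePresentation g₀ ∧ QuasiCompact g₀ ∧
        LocallyOfFinitePresentation (f₀ ≫ g₀) ∧ QuasiCompact (f₀ ≫ g₀) ∧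
        IsPullback qY g g₀ r ∧ IsPullback qX f f₀ qY := by
  obtain ⟨jX, X₁, hX₁, qX₁, _, _, _, sX⟩ := H8Lim.exists_stage_spec (R := R) (f ≫ g)
  obtain ⟨jY, Y₁, hY₁, qY₁, _, _, _, sY⟩ := H8Lim.exists_stage_spec (R := R) g
  have hN : ∀ i, IsNoetherian ((H8Lim.fgSpecDiagram R).obj i) := fun i =>
    inferInstanceAs (IsNoetherian (Spec (CommRingCat.of (H8Lim.fgSub R i.unop))))
  obtain ⟨l, X₀, Y₀, f₀, g₀, qX, qY, e⟩ :=
    exists_model_mor_aux (H8Lim.isLimitFgSpecCone R) hN f g sX sY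
  exact ⟨_, X₀, Y₀, (H8Lim.fgSpecCone R).π.app l, f₀, g₀, qX, qY, hN l, e⟩

/-! ### General base -/

theorem isLocallyConstructible_locusPair_general {P : ∀ ⦃X Y T : Scheme.{u}⦄, (X ⟶ T) → (Y ⟶ T) → Prop}
    (hP : ConsPropPair.IsConsPair P) (u : X ⟶ S) (v : Y ⟶ S)
    [LocallyOfFinitePresentation u] [QuasiCompact u] [QuasiSeparated u]
    [LocallyOfFinitePresentation v] [QuasiCompact v] [QuasiSeparated v] :
    Topology.IsLocallyConstructible (ConsPropPair.locusPair P u v) :=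
  isLocallyConstructible_of_models _ fun A j _ => by
    obtain ⟨S₀, X₀, Y₀, r, u₀, v₀, qX, qY, _, _, _, _, _, hX, hY⟩ :=
      exists_model_pair (pullback.snd u j) (pullback.snd v j)
    refine ⟨S₀, r, _, (isConstructible_locusPair_noeth hP u₀ v₀).isLocallyConstructible, ?_⟩
    rw [← locusPair_preimage hP.1 (IsPullback.of_hasPullback u j) (IsPullback.of_hasPullback v j),
      ← locusPair_preimage hP.1 hX hY]

theorem isIndConstructible_locusPair_general {P : ∀ ⦃X Y T : Scheme.{u}⦄, (X ⟶ T) → (Y ⟶ T) → Prop}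
    (hP : ConsPropPair.IsIndConsPair P) (u : X ⟶ S) (v : Y ⟶ S)
    [LocallyOfFinitePresentation u] [QuasiCompact u] [QuasiSeparated u]
    [LocallyOfFinitePresentation v] [QuasiCompact v] [QuasiSeparated v] :
    ProCons.IsIndConstructible (ConsPropPair.locusPair P u v) :=
  isIndConstructible_of_models _ fun A j _ => by
    obtain ⟨S₀, X₀, Y₀, r, u₀, v₀, qX, qY, _, _, _, _, _, hX, hY⟩ :=
      exists_model_pair (pullback.snd u j) (pullback.snd v j)
    refine ⟨S₀, r, _, isIndConstructible_locusPair_noeth hP u₀ v₀, ?_⟩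
    rw [← locusPair_preimage hP.1 (IsPullback.of_hasPullback u j) (IsPullback.of_hasPullback v j),
      ← locusPair_preimage hP.1 hX hY]

theorem isLocallyConstructible_locusMor_general {P : ∀ ⦃X Y T : Scheme.{u}⦄, (X ⟶ Y) → (Y ⟶ T) → Prop}
    (hP : ConsProp.IsConsMor P) (f : X ⟶ Y) (g : Y ⟶ S)
    [LocallyOfFinitePresentation g] [QuasiCompact g] [QuasiSeparated g]
    [LocallyOfFinitePresentation (f ≫ g)] [QuasiCompact (f ≫ g)] [QuasiSeparated (f ≫ g)] :
    Topology.IsLocallyConstructible (ConsProp.locusMor P f g) :=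
  isLocallyConstructible_of_models _ fun A j _ => by
    have hY := IsPullback.of_hasPullback g j
    have hX := isPullback_fst_comp f g j
    have := MorphismProperty.of_isPullback (hX.paste_vert hY) ‹LocallyOfFinitePresentation (f ≫ g)›
    have := MorphismProperty.of_isPullback (hX.paste_vert hY) ‹QuasiCompact (f ≫ g)›
    have := MorphismProperty.of_isPullback (hX.paste_vert hY) ‹QuasiSeparated (f ≫ g)›
    obtain ⟨S₀, X₀, Y₀, r, f₀, g₀, qX, qY, _, _, _, _, _, hY₀, hX₀⟩ :=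
      exists_model_mor (pullback.snd f (pullback.fst g j)) (pullback.snd g j)
    refine ⟨S₀, r, _, (isConstructible_locusMor_noeth hP f₀ g₀).isLocallyConstructible, ?_⟩
    rw [← locusMor_preimage hP.1 hY hX, ← locusMor_preimage hP.1 hY₀ hX₀]

theorem isIndConstructible_locusMor_general {P : ∀ ⦃X Y T : Scheme.{u}⦄, (X ⟶ Y) → (Y ⟶ T) → Prop}
    (hP : ConsProp.IsIndConsMor P) (f : X ⟶ Y) (g : Y ⟶ S)
    [LocallyOfFinitePresentation g] [QuasiCompact g] [QuasiSeparated g]
    [LocallyOfFinitePresentation (f ≫ g)] [QuasiCompact (f ≫ g)] [QuasiSeparated (f ≫ g)] :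
    ProCons.IsIndConstructible (ConsProp.locusMor P f g) :=
  isIndConstructible_of_models _ fun A j _ => by
    have hY := IsPullback.of_hasPullback g j
    have hX := isPullback_fst_comp f g j
    have := MorphismProperty.of_isPullback (hX.paste_vert hY) ‹LocallyOfFinitePresentation (f ≫ g)›
    have := MorphismProperty.of_isPullback (hX.paste_vert hY) ‹QuasiCompact (f ≫ g)›
    have := MorphismProperty.of_isPullback (hX.paste_vert hY) ‹QuasiSeparated (f ≫ g)›
    obtain ⟨S₀, X₀, Y₀, r, f₀, g₀, qX, qY, _, _, _, _, _, hY₀, hX₀⟩ :=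
      exists_model_mor (pullback.snd f (pullback.fst g j)) (pullback.snd g j)
    refine ⟨S₀, r, _, isIndConstructible_locusMor_noeth hP f₀ g₀, ?_⟩
    rw [← locusMor_preimage hP.1 hY hX, ← locusMor_preimage hP.1 hY₀ hX₀]

end Groth.Agent.ConsPropLib
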