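import Groth.Agent.ConsPropLib.Locus
import Groth.Agent.H8Lim.ProConsLimit

/-!
# The limit form of ind-constructibility (EGA IV 9.3.4)
-/

set_option autoImplicit false
set_option backward.isDefEq.respectTransparency.types false

universe u

open CategoryTheory CategoryTheory.Limits AlgebraicGeometry

namespace Groth.Agent.ConsPropLib

variable {I : Type u} [SmallCategory I] [IsCofiltered I] {D : I ⥤ Scheme.{u}} {c : Cone D}
  (hc : IsLimit c) [∀ (i j : I) (a : i ⟶ j), IsAffineHom (D.map a)]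

include hc in
/-- An ind-constructible set containing the image of the limit contains the image of a stage. -/
theorem exists_stage_full {i₀ : I} [CompactSpace (D.obj i₀)] {E : Set (D.obj i₀)}
    (hE : ProCons.IsIndConstructible E) (h : ∀ s, c.π.app i₀ s ∈ E) :
    ∃ (j : I) (φ : j ⟶ i₀), ∀ t, D.map φ t ∈ E := by
  obtain ⟨j, φ, hj⟩ := H8Lim.exists_preimage_subset_of_isProConstructible hc
    (P := Eᶜ) (C := ∅) (H8ProCons.isIndConstructible_iff_compl.1 hE) Topology.IsConstructible.empty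
    (fun s hs => hs (h s))
  exact ⟨j, φ, fun t => by_contra fun ht => hj ht⟩

include hc in
theorem forall_locusMor_iff {P : ∀ ⦃X Y T : Scheme.{u}⦄, (X ⟶ Y) → (Y ⟶ T) → Prop}
    (hP : ConsProp.IsIndConsMor P) (i₀ : I) [CompactSpace ↥(D.obj i₀)]
    {X₀ Y₀ : Scheme.{u}} (f₀ : X₀ ⟶ Y₀) (g₀ : Y₀ ⟶ D.obj i₀)
    [LocallyOfFinitePresentation g₀] [QuasiCompact g₀] [QuasiSeparated g₀]
    [LocallyOfFinitePresentation (f₀ ≫ g₀)] [QuasiCompact (f₀ ≫ g₀)] [QuasiSeparated (f₀ ≫ g₀)]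
    {X Y : Scheme.{u}} (f : X ⟶ Y) (g : Y ⟶ c.pt) (qY : Y ⟶ Y₀) (qX : X ⟶ X₀)
    (hY : IsPullback qY g g₀ (c.π.app i₀)) (hX : IsPullback qX f f₀ qY) :
    (∀ s : ↥c.pt, s ∈ ConsProp.locusMor P f g) ↔
      ∃ (j : I) (φ : j ⟶ i₀) (Xj Yj : Scheme.{u}) (fj : Xj ⟶ Yj) (gj : Yj ⟶ D.obj j)
        (pY : Yj ⟶ Y₀) (pX : Xj ⟶ X₀), IsPullback pY gj g₀ (D.map φ) ∧ IsPullback pX fj f₀ pY ∧
          ∀ t : ↥(D.obj j), t ∈ ConsProp.locusMor P fj gj := by
  rw [locusMor_preimage hP.1 hY hX]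
  constructor
  · intro h
    obtain ⟨j, φ, hj⟩ := exists_stage_full hc (isIndConstructible_locusMor_general hP f₀ g₀) h
    refine ⟨j, φ, _, _, _, _, _, _, IsPullback.of_hasPullback g₀ (D.map φ),
      IsPullback.of_hasPullback f₀ _, fun t => ?_⟩
    rw [locusMor_preimage hP.1 (IsPullback.of_hasPullback g₀ (D.map φ))
      (IsPullback.of_hasPullback f₀ _)]
    exact hj t
  · rintro ⟨j, φ, Xj, Yj, fj, gj, pY, pX, h₁, h₂, h⟩ s
    rw [locusMor_preimage hP.1 h₁ h₂] at h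
    have := h (c.π.app j s)
    rwa [Set.mem_preimage, ← Scheme.Hom.comp_apply, c.w] at this

include hc in
theorem forall_locusPair_iff {P : ∀ ⦃X Y T : Scheme.{u}⦄, (X ⟶ T) → (Y ⟶ T) → Prop}
    (hP : ConsPropPair.IsIndConsPair P) (i₀ : I) [CompactSpace ↥(D.obj i₀)]
    {X₀ Y₀ : Scheme.{u}} (u₀ : X₀ ⟶ D.obj i₀) (v₀ : Y₀ ⟶ D.obj i₀)
    [LocallyOfFinitePresentation u₀] [QuasiCompact u₀] [QuasiSeparated u₀]
    [LocallyOfFinitePresentation v₀] [QuasiCompact v₀] [QuasiSeparated v₀]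
    {X Y : Scheme.{u}} (u : X ⟶ c.pt) (v : Y ⟶ c.pt) (qX : X ⟶ X₀) (qY : Y ⟶ Y₀)
    (hX : IsPullback qX u u₀ (c.π.app i₀)) (hY : IsPullback qY v v₀ (c.π.app i₀)) :
    (∀ s : ↥c.pt, s ∈ ConsPropPair.locusPair P u v) ↔
      ∃ (j : I) (φ : j ⟶ i₀) (Xj Yj : Scheme.{u}) (uj : Xj ⟶ D.obj j) (vj : Yj ⟶ D.obj j)
        (pX : Xj ⟶ X₀) (pY : Yj ⟶ Y₀), IsPullback pX uj u₀ (D.map φ) ∧
          IsPullback pY vj v₀ (D.map φ) ∧ ∀ t : ↥(D.obj j), t ∈ ConsPropPair.locusPair P uj vj := by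
  rw [locusPair_preimage hP.1 hX hY]
  constructor
  · intro h
    obtain ⟨j, φ, hj⟩ := exists_stage_full hc (isIndConstructible_locusPair_general hP u₀ v₀) h
    refine ⟨j, φ, _, _, _, _, _, _, IsPullback.of_hasPullback u₀ (D.map φ),
      IsPullback.of_hasPullback v₀ (D.map φ), fun t => ?_⟩
    rw [locusPair_preimage hP.1 (IsPullback.of_hasPullback u₀ (D.map φ))
      (IsPullback.of_hasPullback v₀ (D.map φ))]
    exact hj t
  · rintro ⟨j, φ, Xj, Yj, uj, vj, pX, pY, h₁, h₂, h⟩ s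
    rw [locusPair_preimage hP.1 h₁ h₂] at h
    have := h (c.π.app j s)
    rwa [Set.mem_preimage, ← Scheme.Hom.comp_apply, c.w] at this

end Groth.Agent.ConsPropLib
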