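import Groth.Agent.ConsPropLib.Locus
import Groth.Agent.ConsPropLib.LimitForm
import Groth.Agent.H8Lim.ModFPDescent
import Groth.Agent.Desc19b.ModStFibGrpd
import Groth.Agent.Coherent.FinitePres

/-!
# Loci of constructible properties of modules (EGA IV 9.3.3, 9.3.4)
-/

set_option autoImplicit false
set_option backward.isDefEq.respectTransparency.types false
set_option maxHeartbeats 1000000

universe u

open CategoryTheory CategoryTheory.Limits AlgebraicGeometry

namespace Groth.Agent.ConsPropLib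

variable {X S X' S' : Scheme.{u}}

/-- Pullback of a module along equal composites. -/
noncomputable def pullbackSquareIso {W Z Z₁ Z₂ : Scheme.{u}} (a : W ⟶ Z₁) (b : Z₁ ⟶ Z) (c : W ⟶ Z₂)
    (d : Z₂ ⟶ Z) (h : a ≫ b = c ≫ d) (F : Z.Modules) :
    (Scheme.Modules.pullback a).obj ((Scheme.Modules.pullback b).obj F) ≅
      (Scheme.Modules.pullback c).obj ((Scheme.Modules.pullback d).obj F) :=
  (Scheme.Modules.pullbackComp a b).app F ≪≫ (Scheme.Modules.pullbackCongr h).app F ≪≫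
    ((Scheme.Modules.pullbackComp c d).app F).symm

theorem isQCoh_of_isFP {F : X.Modules} (hF : CohB1.IsFP F) : Coh.IsQCoh F :=
  haveI : SheafOfModules.IsFinitePresentation.{u} (R := X.ringCatSheaf) F := hF
  inferInstanceAs (SheafOfModules.IsQuasicoherent.{u} (R := X.ringCatSheaf) F)

theorem isCoh_fibre (u : X ⟶ S) [LocallyOfFiniteType u] (F : X.Modules) (hF : CohB1.IsFP F) (s : S) :
    Coh.IsCoh ((Scheme.Modules.pullback (u.fiberι s)).obj F) := by
  have := LocallyOfFiniteType.isLocallyNoetherian (u.fiberToSpecResidueField s)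
  exact (Coherent.isCoh_iff_isFP _).2 (Desc19b.ModStFib.isFP_pullback _ F hF)

theorem locusMod_preimage {P : ∀ ⦃Y T : Scheme.{u}⦄, (Y ⟶ T) → Y.Modules → Prop}
    (hP : ConsProp.IsFieldStableMod P) {u' : X' ⟶ S'} {u : X ⟶ S} [LocallyOfFiniteType u]
    [QuasiCompact u] {q : X' ⟶ X} {r : S' ⟶ S} (sq : IsPullback q u' u r) (F : X.Modules)
    (hF : CohB1.IsFP F) {F' : X'.Modules} (e : F' ≅ (Scheme.Modules.pullback q).obj F) :
    ConsProp.locusMod P u' F' = r ⁻¹' ConsProp.locusMod P u F := by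
  ext s'
  obtain ⟨l, hl, el⟩ := exists_fibre_square sq s'
  exact (hP _ _ l _ hl _ _ (isCoh_fibre u F hF (r s'))
    ((Scheme.Modules.pullback (u'.fiberι s')).mapIso e ≪≫ pullbackSquareIso _ _ _ _ el.symm F)).symm

theorem isConstructible_locusMod_noeth {P : ∀ ⦃Y T : Scheme.{u}⦄, (Y ⟶ T) → Y.Modules → Prop}
    (hP : ConsProp.IsConsMod P) [IsNoetherian S] (u : X ⟶ S) [LocallyOfFiniteType u] [QuasiCompact u]
    (F : X.Modules) (hF : CohB1.IsFP F) :
    Topology.IsConstructible (ConsProp.locusMod P u F) :=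
  isConstructible_of_generic _ fun S' i _ _ _ => by
    rw [← locusMod_preimage hP.1 (IsPullback.of_hasPullback u i) F hF (Iso.refl _)]
    refine hP.2 _ _ ?_
    have := LocallyOfFiniteType.isLocallyNoetherian (pullback.snd u i)
    exact (Coherent.isCoh_iff_isFP _).2 (Desc19b.ModStFib.isFP_pullback _ F hF)

theorem isIndConstructible_locusMod_noeth {P : ∀ ⦃Y T : Scheme.{u}⦄, (Y ⟶ T) → Y.Modules → Prop}
    (hP : ConsProp.IsIndConsMod P) [IsNoetherian S] (u : X ⟶ S) [LocallyOfFiniteType u]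
    [QuasiCompact u] (F : X.Modules) (hF : CohB1.IsFP F) :
    ProCons.IsIndConstructible (ConsProp.locusMod P u F) :=
  isIndConstructible_of_generic _ fun S' i _ _ _ h => by
    rw [← locusMod_preimage hP.1 (IsPullback.of_hasPullback u i) F hF (Iso.refl _)]
    refine hP.2 _ _ ?_ ?_
    · have := LocallyOfFiniteType.isLocallyNoetherian (pullback.snd u i)
      exact (Coherent.isCoh_iff_isFP _).2 (Desc19b.ModStFib.isFP_pullback _ F hF)
    · rw [locusMod_preimage hP.1 (IsPullback.of_hasPullback u i) F hF (Iso.refl _)]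
      exact h

theorem exists_model_mod_aux {I : Type u} [SmallCategory I] [IsCofiltered I] {D : I ⥤ Scheme.{u}}
    {c : Cone D} (hc : IsLimit c) [∀ {i j : I} (a : i ⟶ j), IsAffineHom (D.map a)]
    (hN : ∀ i, IsNoetherian (D.obj i)) (u : X ⟶ c.pt) {j : I} {X₁ : Scheme.{u}}
    {h₁ : X₁ ⟶ D.obj j} {q₁ : X ⟶ X₁}
    [LocallyOfFinitePresentation h₁] [QuasiCompact h₁] [QuasiSeparated h₁]
    (sX : IsPullback q₁ u h₁ (c.π.app j)) (F : X.Modules) (hF : CohB1.IsFP F) :
    ∃ (l : I) (X₀ : Scheme.{u}) (u₀ : X₀ ⟶ D.obj l) (q : X ⟶ X₀) (F₀ : X₀.Modules),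
      LocallyOfFiniteType u₀ ∧ QuasiCompact u₀ ∧ IsPullback q u u₀ (c.π.app l) ∧ CohB1.IsFP F₀ ∧
        Nonempty (F ≅ (Scheme.Modules.pullback q).obj F₀) := by
  have := hN j
  have : CompactSpace X₁ := QuasiCompact.compactSpace_of_compactSpace h₁
  have : QuasiSeparatedSpace X₁ := quasiSeparatedSpace_of_quasiSeparated h₁
  have : Coh.IsQCoh (X := (H8Lim.stageCone h₁ c q₁ u sX).pt) F := isQCoh_of_isFP hF
  let o : Over j := Over.mk (𝟙 j)
  have hlim := H8Lim.isLimitStageCone h₁ q₁ u sX hc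
  obtain ⟨k, -, Fk, -, hFk, ⟨e⟩⟩ :=
    H8Lim.exists_stage_fpModule (D := H8Lim.stage D h₁) hlim (i := o) F hF
  refine ⟨k.left, (H8Lim.stage D h₁).obj k, H8Lim.stageSnd D h₁ k,
    H8Lim.stageProj h₁ c q₁ u sX k, Fk, ?_, ?_, ?_, hFk, ⟨e.symm⟩⟩
  · exact MorphismProperty.of_isPullback (H8Lim.isPullback_stage D h₁ k)
      (inferInstanceAs (LocallyOfFiniteType h₁))
  · exact MorphismProperty.of_isPullback (H8Lim.isPullback_stage D h₁ k) ‹QuasiCompact h₁›
  · exact IsPullback.of_right (by rw [H8Lim.stageProj_fst, c.w]; exact sX)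
      (H8Lim.stageProj_snd h₁ c q₁ u sX k) (H8Lim.isPullback_stage D h₁ k)

/-- A finitely presented module on a finitely presented scheme over an affine base has a noetherian
model. -/
theorem exists_model_mod {R : CommRingCat.{u}} (u : X ⟶ Spec R) [LocallyOfFinitePresentation u]
    [QuasiCompact u] [QuasiSeparated u] (F : X.Modules) (hF : CohB1.IsFP F) :
    ∃ (S₀ X₀ : Scheme.{u}) (r : Spec R ⟶ S₀) (u₀ : X₀ ⟶ S₀) (q : X ⟶ X₀) (F₀ : X₀.Modules),
      IsNoetherian S₀ ∧ LocallyOfFiniteType u₀ ∧ QuasiCompact u₀ ∧ IsPullback q u u₀ r ∧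
        CohB1.IsFP F₀ ∧ Nonempty (F ≅ (Scheme.Modules.pullback q).obj F₀) := by
  obtain ⟨j, X₁, h₁, q₁, _, _, _, sX⟩ := H8Lim.exists_stage_spec (R := R) u
  have hN : ∀ i, IsNoetherian ((H8Lim.fgSpecDiagram R).obj i) := fun i =>
    inferInstanceAs (IsNoetherian (Spec (CommRingCat.of (H8Lim.fgSub R i.unop))))
  obtain ⟨l, X₀, u₀, q, F₀, e⟩ :=
    exists_model_mod_aux (H8Lim.isLimitFgSpecCone R) hN u sX F hF
  exact ⟨_, X₀, (H8Lim.fgSpecCone R).π.app l, u₀, q, F₀, hN l, e⟩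

theorem isLocallyConstructible_locusMod_general {P : ∀ ⦃Y T : Scheme.{u}⦄, (Y ⟶ T) → Y.Modules → Prop}
    (hP : ConsProp.IsConsMod P) (u : X ⟶ S) [LocallyOfFinitePresentation u] [QuasiCompact u]
    [QuasiSeparated u] (F : X.Modules) (hF : CohB1.IsFP F) :
    Topology.IsLocallyConstructible (ConsProp.locusMod P u F) :=
  isLocallyConstructible_of_models _ fun A j _ => by
    obtain ⟨S₀, X₀, r, u₀, q, F₀, _, _, _, sq, hF₀, ⟨e⟩⟩ :=
      exists_model_mod (pullback.snd u j) ((Scheme.Modules.pullback (pullback.fst u j)).obj F)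
        (Desc19b.ModStFib.isFP_pullback _ F hF)
    refine ⟨S₀, r, _, (isConstructible_locusMod_noeth hP u₀ F₀ hF₀).isLocallyConstructible, ?_⟩
    rw [← locusMod_preimage hP.1 (IsPullback.of_hasPullback u j) F hF (Iso.refl _),
      ← locusMod_preimage hP.1 sq F₀ hF₀ e]

theorem isIndConstructible_locusMod_general {P : ∀ ⦃Y T : Scheme.{u}⦄, (Y ⟶ T) → Y.Modules → Prop}
    (hP : ConsProp.IsIndConsMod P) (u : X ⟶ S) [LocallyOfFinitePresentation u] [QuasiCompact u]
    [QuasiSeparated u] (F : X.Modules) (hF : CohB1.IsFP F) :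
    ProCons.IsIndConstructible (ConsProp.locusMod P u F) :=
  isIndConstructible_of_models _ fun A j _ => by
    obtain ⟨S₀, X₀, r, u₀, q, F₀, _, _, _, sq, hF₀, ⟨e⟩⟩ :=
      exists_model_mod (pullback.snd u j) ((Scheme.Modules.pullback (pullback.fst u j)).obj F)
        (Desc19b.ModStFib.isFP_pullback _ F hF)
    refine ⟨S₀, r, _, isIndConstructible_locusMod_noeth hP u₀ F₀ hF₀, ?_⟩
    rw [← locusMod_preimage hP.1 (IsPullback.of_hasPullback u j) F hF (Iso.refl _),
      ← locusMod_preimage hP.1 sq F₀ hF₀ e]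

theorem genericPoint_mem_interior [IrreducibleSpace S] {E : Set S}
    (hE : ProCons.IsIndConstructible E) (h : genericPoint S ∈ E) : genericPoint S ∈ interior E := by
  rw [H8ProCons.mem_interior_iff hE]
  intro x hx
  rwa [((genericPoint_specializes x).antisymm hx).eq] at h

theorem forall_locusMod_iff {I : Type u} [SmallCategory I] [IsCofiltered I] {D : I ⥤ Scheme.{u}}
    {c : Cone D} (hc : IsLimit c) [∀ (i j : I) (a : i ⟶ j), IsAffineHom (D.map a)]
    {P : ∀ ⦃Y T : Scheme.{u}⦄, (Y ⟶ T) → Y.Modules → Prop} (hP : ConsProp.IsIndConsMod P)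
    (i₀ : I) [CompactSpace ↥(D.obj i₀)] {X₀ : Scheme.{u}} (u₀ : X₀ ⟶ D.obj i₀)
    [LocallyOfFinitePresentation u₀] [QuasiCompact u₀] [QuasiSeparated u₀]
    (F₀ : X₀.Modules) (hF₀ : CohB1.IsFP F₀)
    {X : Scheme.{u}} (u : X ⟶ c.pt) (q : X ⟶ X₀) (hX : IsPullback q u u₀ (c.π.app i₀)) :
    (∀ s : ↥c.pt, s ∈ ConsProp.locusMod P u ((Scheme.Modules.pullback q).obj F₀)) ↔
      ∃ (j : I) (φ : j ⟶ i₀) (Xj : Scheme.{u}) (uj : Xj ⟶ D.obj j) (p : Xj ⟶ X₀),
        IsPullback p uj u₀ (D.map φ) ∧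
          ∀ t : ↥(D.obj j), t ∈ ConsProp.locusMod P uj ((Scheme.Modules.pullback p).obj F₀) := by
  rw [locusMod_preimage hP.1 hX F₀ hF₀ (Iso.refl _)]
  constructor
  · intro h
    obtain ⟨j, φ, hj⟩ := exists_stage_full hc (isIndConstructible_locusMod_general hP u₀ F₀ hF₀) h
    refine ⟨j, φ, _, _, _, IsPullback.of_hasPullback u₀ (D.map φ), fun t => ?_⟩
    rw [locusMod_preimage hP.1 (IsPullback.of_hasPullback u₀ (D.map φ)) F₀ hF₀ (Iso.refl _)]
    exact hj t
  · rintro ⟨j, φ, Xj, uj, p, h₁, h⟩ s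
    rw [locusMod_preimage hP.1 h₁ F₀ hF₀ (Iso.refl _)] at h
    have := h (c.π.app j s)
    rwa [Set.mem_preimage, ← Scheme.Hom.comp_apply, c.w] at this

end Groth.Agent.ConsPropLib
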