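import Groth.Agent.ConsPropLib.Locus
import Groth.Agent.EGA43.Cons.Locus
import Groth.Agent.H8Lim.DescentMore
import Groth.Agent.H8ProCons.Image
import Groth.Agent.Et18.Descent
import Groth.Agent.FlatMorDim.Generic
import Groth.Agent.DimLib.BaseChange

/-!
# Examples of constructible properties (EGA IV 9.3.1, 9.6)
-/

set_option autoImplicit false
set_option backward.isDefEq.respectTransparency.types false

universe u

open CategoryTheory CategoryTheory.Limits AlgebraicGeometry

namespace Groth.Agent.ConsPropLib

variable {X Y S X' Y' S' T T' : Scheme.{u}}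

/-- In an irreducible space a locally constructible set or its complement has nonempty interior. -/
theorem interior_nonempty_or [IrreducibleSpace S] {E : Set S} (hE : Topology.IsLocallyConstructible E) :
    (interior E).Nonempty ∨ (interior Eᶜ).Nonempty := by
  have key : ∀ F : Set S, ProCons.IsIndConstructible F → genericPoint S ∈ F → (interior F).Nonempty :=
    fun F hF h => ⟨genericPoint S, (H8ProCons.mem_interior_iff hF _).2 fun x hx => by
      rwa [((genericPoint_specializes x).antisymm hx).eq] at h⟩
  obtain ⟨h1, h2⟩ := H8ProCons.isLocallyConstructible_iff_ind_and_pro.1 hE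
  by_cases h : genericPoint S ∈ E
  · exact Or.inl (key E h1 h)
  · exact Or.inr (key Eᶜ (H8ProCons.isProConstructible_iff_compl.1 h2) h)

theorem surjective_of_isPullback_point {e : X' ⟶ X} {g' : X' ⟶ T'} {g : X ⟶ T} {h : T' ⟶ T}
    [IsIntegral T'] [Subsingleton T] (sq : IsPullback e g' g h) : Surjective e :=
  have : Surjective h := ⟨fun t => ⟨Classical.arbitrary T', Subsingleton.elim _ _⟩⟩
  MorphismProperty.of_isPullback sq.flip this

theorem fiber_finiteType (f : X ⟶ Y) (g : Y ⟶ S) [LocallyOfFiniteType g] [LocallyOfFiniteType (f ≫ g)]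
    [QuasiCompact (f ≫ g)] [IsLocallyNoetherian S] : LocallyOfFiniteType f ∧ QuasiCompact f :=
  have := LocallyOfFiniteType.isLocallyNoetherian g
  ⟨locallyOfFiniteType_of_comp f g, QuasiCompact.of_comp f g⟩

theorem isLocallyNoetherian_of_point (T : Scheme.{u}) [IsIntegral T] [Subsingleton T] :
    IsLocallyNoetherian T := by
  have : IsField Γ(T, ⊤) := isField_of_isIntegral_of_subsingleton T
  let := this.toField
  have : IsNoetherianRing Γ(T, ⊤) := inferInstance
  have : IsLocallyNoetherian (Spec Γ(T, ⊤)) := inferInstance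
  exact isLocallyNoetherian_of_isOpenImmersion T.isoSpec.hom

/-! ### All fibres of a morphism satisfy a property -/

theorem forall_fiber_fieldStable {P : ∀ ⦃Y T : Scheme.{u}⦄, (Y ⟶ T) → Prop} (hP : ConsProp.IsFieldStable P) :
    ConsProp.IsFieldStableMor (fun X Y T f g => ∀ y : ↥Y, P (f.fiberToSpecResidueField y)) := by
  intro X X' Y Y' T T' f g f' g' eX eY h _ _ _ _ _ _ _ _ hY hX
  have := isLocallyNoetherian_of_point T
  obtain ⟨_, _⟩ := fiber_finiteType f g
  have hl := locus_preimage hP hX
  have hs := surjective_of_isPullback_point hY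
  constructor
  · intro H y'
    exact (Set.ext_iff.1 hl y').2 (H (eY y'))
  · intro H y
    obtain ⟨y', rfl⟩ := hs.surj y
    exact (Set.ext_iff.1 hl y').1 (H y')

theorem locusMor_forall_fiber {P : ∀ ⦃Y T : Scheme.{u}⦄, (Y ⟶ T) → Prop} (hP : ConsProp.IsFieldStable P)
    (f : X ⟶ Y) (g : Y ⟶ S) [LocallyOfFiniteType f] [QuasiCompact f] :
    ConsProp.locusMor (fun X Y T f g => ∀ y : ↥Y, P (f.fiberToSpecResidueField y)) f g =
      (g '' (ConsProp.locus P f)ᶜ)ᶜ := by
  ext s
  have hl := locus_preimage hP (fiberMap_isPullback f g s)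
  simp only [ConsProp.locusMor, Set.mem_setOf_eq, Set.mem_compl_iff, Set.mem_image, not_exists,
    not_and]
  constructor
  · intro H y hy hys
    obtain ⟨z, rfl⟩ : y ∈ Set.range (g.fiberι s) := by rw [g.range_fiberι]; exact hys
    exact hy ((Set.ext_iff.1 hl z).1 (H z))
  · intro H z
    by_contra hz
    exact H (g.fiberι s z) (fun hE => hz ((Set.ext_iff.1 hl z).2 hE))
      (g.range_fiberι s ▸ Set.mem_range_self z : g.fiberι s z ∈ g ⁻¹' {s})

theorem isConsMor_forall_fiber {P : ∀ ⦃Y T : Scheme.{u}⦄, (Y ⟶ T) → Prop} (hP : ConsProp.IsCons P) :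
    ConsProp.IsConsMor (fun X Y T f g => ∀ y : ↥Y, P (f.fiberToSpecResidueField y)) := by
  refine ⟨forall_fiber_fieldStable hP.1, fun X Y S f g _ _ _ _ _ _ => ?_⟩
  obtain ⟨_, _⟩ := fiber_finiteType f g
  have := LocallyOfFiniteType.isLocallyNoetherian g
  have : CompactSpace Y := QuasiCompact.compactSpace_of_compactSpace g
  have : IsNoetherian Y := ⟨⟩
  rw [locusMor_forall_fiber hP.1 f g]
  exact interior_nonempty_or (H8Lim.isLocallyConstructible_compl
    (g.isLocallyConstructible_image (isConstructible_locus hP f).compl.isLocallyConstructible))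

theorem isIndConsMor_forall_fiber {P : ∀ ⦃Y T : Scheme.{u}⦄, (Y ⟶ T) → Prop}
    (hP : ConsProp.IsIndCons P) :
    ConsProp.IsIndConsMor (fun X Y T f g => ∀ y : ↥Y, P (f.fiberToSpecResidueField y)) := by
  refine ⟨forall_fiber_fieldStable hP.1, fun X Y S f g _ _ _ _ _ _ hη => ?_⟩
  obtain ⟨_, _⟩ := fiber_finiteType f g
  have := LocallyOfFiniteType.isLocallyNoetherian g
  have : CompactSpace Y := QuasiCompact.compactSpace_of_compactSpace g
  have : IsNoetherian Y := ⟨⟩
  rw [locusMor_forall_fiber hP.1 f g] at hη ⊢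
  have hE := isIndConstructible_locus hP f
  have hI : ProCons.IsIndConstructible (g '' (ConsProp.locus P f)ᶜ)ᶜ :=
    H8ProCons.isProConstructible_iff_compl.1
      (H8ProCons.isProConstructible_image g (H8ProCons.isIndConstructible_iff_compl.1 hE))
  refine ⟨genericPoint S, (H8ProCons.mem_interior_iff hI _).2 fun x hx => ?_⟩
  rwa [((genericPoint_specializes x).antisymm hx).eq] at hη

/-! ### Quasi-finite and finite -/

theorem locallyQuasiFinite_of_forall {f : X ⟶ Y} [LocallyOfFiniteType f]
    (h : ∀ x, f.QuasiFiniteAt x) : LocallyQuasiFinite f := by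
  rw [locallyQuasiFinite_iff_isDiscrete_preimage_singleton]
  intro y
  have : DiscreteTopology (f.fiber y) := discreteTopology_iff_isOpen_singleton.2 fun z => by
    obtain ⟨⟨x, (rfl : f x = y)⟩, rfl⟩ := (f.fiberHomeo y).symm.surjective z
    exact (Scheme.Hom.QuasiFiniteAt.isClopen_singleton_asFiber f (h x)).2
  exact ⟨(f.fiberHomeo y).symm.isEmbedding.discreteTopology⟩

theorem locallyQuasiFinite_iff_forall {f : X ⟶ Y} [LocallyOfFiniteType f] :
    LocallyQuasiFinite f ↔ ∀ x, f.QuasiFiniteAt x :=
  ⟨fun _ => f.quasiFiniteAt, locallyQuasiFinite_of_forall⟩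

/-- Local quasi-finiteness of a base change in terms of the quasi-finite locus. -/
theorem locallyQuasiFinite_snd_iff {e : X' ⟶ X} {f' : X' ⟶ Y'} {f : X ⟶ Y} {r : Y' ⟶ Y}
    (sq : IsPullback e f' f r) [LocallyOfFiniteType f] :
    LocallyQuasiFinite f' ↔ ∀ x, f x ∈ Set.range r → f.QuasiFiniteAt x := by
  have : LocallyOfFiniteType f' := MorphismProperty.of_isPullback sq inferInstance
  rw [locallyQuasiFinite_iff_forall]
  have hl := EGA43.Cons.quasiFiniteLocus_isPullback sq
  constructor
  · intro H x hx
    obtain ⟨y', hy'⟩ := hx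
    obtain ⟨z, hz, -⟩ := Scheme.Pullback.exists_preimage_pullback (f := f) (g := r) x y' hy'.symm
    have e1 : e (sq.isoPullback.inv z) = x := by
      rw [← Scheme.Hom.comp_apply, sq.isoPullback_inv_fst, hz]
    exact e1 ▸ (Set.ext_iff.1 hl _).1 (H (sq.isoPullback.inv z))
  · intro H z
    refine (Set.ext_iff.1 hl z).2 (H (e z) ⟨f' z, ?_⟩)
    rw [← Scheme.Hom.comp_apply, ← sq.w, Scheme.Hom.comp_apply]

theorem locallyQuasiFinite_iff_of_surjective {e : X' ⟶ X} {f' : X' ⟶ Y'} {f : X ⟶ Y} {r : Y' ⟶ Y}
    (sq : IsPullback e f' f r) [LocallyOfFiniteType f] [Surjective r] :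
    LocallyQuasiFinite f ↔ LocallyQuasiFinite f' := by
  rw [locallyQuasiFinite_snd_iff sq, locallyQuasiFinite_iff_forall]
  exact ⟨fun H x _ => H x, fun H x => H x (r.surjective _)⟩

theorem isCons_isFinite : ConsProp.IsCons.{u} (fun Y T g => AlgebraicGeometry.IsFinite g) := by
  refine ⟨fun Y Y' T T' g g' e h _ _ _ _ _ _ sq => ?_, fun X S u _ _ _ _ => ?_⟩
  · have : Surjective h := ⟨fun t => ⟨Classical.arbitrary T', Subsingleton.elim _ _⟩⟩
    have hqc : QuasiCompact h := inferInstance
    refine ⟨fun hg => MorphismProperty.of_isPullback sq hg, fun hg => ?_⟩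
    have := Et18.descends_isFinite.{u}
    exact MorphismProperty.of_isPullback_of_descendsAlong (P := @AlgebraicGeometry.IsFinite)
      (Q := Et18.FPQC) sq.flip ⟨⟨inferInstance, inferInstance⟩, hqc⟩ (show AlgebraicGeometry.IsFinite g' from hg)
  · have key : ConsProp.locus (fun Y T g => AlgebraicGeometry.IsFinite g) u =
        (u '' {x | ¬ u.QuasiFiniteAt x})ᶜ := by
      ext s
      simp only [ConsProp.locus, Set.mem_setOf_eq, Set.mem_compl_iff, Set.mem_image, not_exists,
        not_and]
      have hl := locallyQuasiFinite_snd_iff (IsPullback.of_hasPullback u (S.fromSpecResidueField s))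
      rw [Scheme.range_fromSpecResidueField] at hl
      refine ⟨fun hf x hx hxs => hx (hl.1 ?_ x hxs), fun H => ?_⟩
      · exact inferInstanceAs (LocallyQuasiFinite (u.fiberToSpecResidueField s))
      · have : LocallyQuasiFinite (u.fiberToSpecResidueField s) :=
          hl.2 fun x hx => by_contra fun hx' => H x hx' hx
        exact IsFinite.of_locallyQuasiFinite _
    rw [key]
    exact interior_nonempty_or (H8Lim.isLocallyConstructible_compl (u.isLocallyConstructible_image
      (H8Lim.isLocallyConstructible_compl (EGA43.Cons.isLocallyConstructible_quasiFiniteAt u))))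

theorem isConsMor_quasiFinite : ConsProp.IsConsMor.{u} (fun X Y T f g =>
    AlgebraicGeometry.LocallyOfFiniteType f ∧ AlgebraicGeometry.QuasiCompact f ∧
      AlgebraicGeometry.LocallyQuasiFinite f) := by
  refine ⟨fun X X' Y Y' T T' f g f' g' eX eY h _ _ _ _ _ _ _ _ hY hX => ?_,
    fun X Y S f g _ _ _ _ _ _ => ?_⟩
  · have := isLocallyNoetherian_of_point T
    obtain ⟨_, _⟩ := fiber_finiteType f g
    have := surjective_of_isPullback_point hY
    beta_reduce
    rw [locallyQuasiFinite_iff_of_surjective hX]
    exact ⟨fun H => ⟨MorphismProperty.of_isPullback hX ‹_›, MorphismProperty.of_isPullback hX ‹_›, H.2.2⟩,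
      fun H => ⟨‹_›, ‹_›, H.2.2⟩⟩
  · obtain ⟨_, _⟩ := fiber_finiteType f g
    have : IsLocallyNoetherian Y := LocallyOfFiniteType.isLocallyNoetherian g
    have key : ConsProp.locusMor (fun X Y T f g => AlgebraicGeometry.LocallyOfFiniteType f ∧
        AlgebraicGeometry.QuasiCompact f ∧ AlgebraicGeometry.LocallyQuasiFinite f) f g =
        ((f ≫ g) '' {x | ¬ f.QuasiFiniteAt x})ᶜ := by
      ext s
      simp only [ConsProp.locusMor, Set.mem_setOf_eq, Set.mem_compl_iff, Set.mem_image, not_exists,
        not_and]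
      have sq := fiberMap_isPullback f g s
      have hl := locallyQuasiFinite_snd_iff sq
      rw [g.range_fiberι] at hl
      refine ⟨fun hf x hx hxs => hx (hl.1 hf.2.2 x hxs), fun H =>
        ⟨MorphismProperty.of_isPullback sq ‹_›, MorphismProperty.of_isPullback sq ‹_›,
          hl.2 fun x hx => by_contra fun hx' => H x hx' hx⟩⟩
    rw [key]
    exact interior_nonempty_or (H8Lim.isLocallyConstructible_compl ((f ≫ g).isLocallyConstructible_image
      (H8Lim.isLocallyConstructible_compl (EGA43.Cons.isLocallyConstructible_quasiFiniteAt f))))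

/-! ### Universally injective -/

/-- Universal injectivity of a base change in terms of the diagonal of the original morphism. -/
theorem universallyInjective_snd_iff {e : X' ⟶ X} {f' : X' ⟶ Y'} {f : X ⟶ Y} {r : Y' ⟶ Y}
    (sq : IsPullback e f' f r) :
    UniversallyInjective f' ↔ ∀ z : ↑(pullback f f), (pullback.fst f f ≫ f) z ∈ Set.range r →
      z ∈ Set.range (pullback.diagonal f) := by
  rw [UniversallyInjective.iff_diagonal]
  have hD := H8Lim.isPullback_diagonal sq
  have hM := H8Lim.isPullback_squareMap sq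
  constructor
  · rintro H z ⟨y', hy'⟩
    obtain ⟨w, hw, -⟩ := Scheme.Pullback.exists_preimage_pullback
      (f := pullback.fst f f ≫ f) (g := r) z y' hy'.symm
    have hz : H8Lim.squareMap sq (hM.isoPullback.inv w) = z := by
      rw [← Scheme.Hom.comp_apply, hM.isoPullback_inv_fst, hw]
    obtain ⟨v, hv⟩ := H.surj (hM.isoPullback.inv w)
    exact ⟨e v, by rw [← Scheme.Hom.comp_apply, hD.w, Scheme.Hom.comp_apply, hv, hz]⟩
  · intro H
    refine ⟨fun w => ?_⟩
    obtain ⟨x, hx⟩ := H (H8Lim.squareMap sq w)
      ⟨(pullback.fst f' f' ≫ f') w, by rw [← Scheme.Hom.comp_apply, ← hM.w, Scheme.Hom.comp_apply]⟩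
    obtain ⟨v, -, hv⟩ := Scheme.Pullback.exists_preimage_pullback
      (f := pullback.diagonal f) (g := H8Lim.squareMap sq) x w hx
    exact ⟨hD.isoPullback.inv v, by rw [← Scheme.Hom.comp_apply, hD.isoPullback_inv_snd, hv]⟩

theorem universallyInjective_iff_of_surjective {e : X' ⟶ X} {f' : X' ⟶ Y'} {f : X ⟶ Y} {r : Y' ⟶ Y}
    (sq : IsPullback e f' f r) [Surjective r] : UniversallyInjective f ↔ UniversallyInjective f' := by
  rw [universallyInjective_snd_iff sq, UniversallyInjective.iff_diagonal]
  exact ⟨fun H z _ => H.surj z, fun H => ⟨fun z => H z (r.surjective _)⟩⟩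

theorem isLocallyConstructible_range_diagonal (f : X ⟶ Y) [LocallyOfFiniteType f] [IsNoetherian X] :
    Topology.IsLocallyConstructible (Set.range (pullback.diagonal f)) := by
  have : IsLocallyNoetherian (pullback f f) := LocallyOfFiniteType.isLocallyNoetherian (pullback.fst f f)
  rw [← Set.image_univ]
  exact (pullback.diagonal f).isLocallyConstructible_image Topology.IsLocallyConstructible.univ

theorem isCons_universallyInjective :
    ConsProp.IsCons.{u} (fun Y T g => AlgebraicGeometry.UniversallyInjective g) := by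
  refine ⟨fun Y Y' T T' g g' e h _ _ _ _ _ _ sq => ?_, fun X S u _ _ _ _ => ?_⟩
  · have : Surjective h := ⟨fun t => ⟨Classical.arbitrary T', Subsingleton.elim _ _⟩⟩
    exact universallyInjective_iff_of_surjective sq
  · have := LocallyOfFiniteType.isLocallyNoetherian u
    have : CompactSpace X := QuasiCompact.compactSpace_of_compactSpace u
    have : IsNoetherian X := ⟨⟩
    have : IsLocallyNoetherian (pullback u u) :=
      LocallyOfFiniteType.isLocallyNoetherian (pullback.fst u u)
    have key : ConsProp.locus (fun Y T g => AlgebraicGeometry.UniversallyInjective g) u =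
        ((pullback.fst u u ≫ u) '' (Set.range (pullback.diagonal u))ᶜ)ᶜ := by
      ext s
      simp only [ConsProp.locus, Set.mem_setOf_eq, Set.mem_compl_iff, Set.mem_image, not_exists,
        not_and]
      have hl : UniversallyInjective (u.fiberToSpecResidueField s) ↔ _ :=
        universallyInjective_snd_iff (IsPullback.of_hasPullback u (S.fromSpecResidueField s))
      rw [hl, Scheme.range_fromSpecResidueField]
      exact ⟨fun H z hz hzs => hz (H z hzs), fun H z hz => by_contra fun h => H z h hz⟩
    rw [key]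
    exact interior_nonempty_or (H8Lim.isLocallyConstructible_compl
      ((pullback.fst u u ≫ u).isLocallyConstructible_image
        (H8Lim.isLocallyConstructible_compl (isLocallyConstructible_range_diagonal u))))

theorem isConsMor_universallyInjective :
    ConsProp.IsConsMor.{u} (fun X Y T f g => AlgebraicGeometry.UniversallyInjective f) := by
  refine ⟨fun X X' Y Y' T T' f g f' g' eX eY h _ _ _ _ _ _ _ _ hY hX => ?_,
    fun X Y S f g _ _ _ _ _ _ => ?_⟩
  · have := surjective_of_isPullback_point hY
    exact universallyInjective_iff_of_surjective hX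
  · obtain ⟨_, _⟩ := fiber_finiteType f g
    have := LocallyOfFiniteType.isLocallyNoetherian (f ≫ g)
    have : CompactSpace X := QuasiCompact.compactSpace_of_compactSpace (f ≫ g)
    have : IsNoetherian X := ⟨⟩
    have : IsLocallyNoetherian Y := LocallyOfFiniteType.isLocallyNoetherian g
    have : IsLocallyNoetherian (pullback f f) :=
      LocallyOfFiniteType.isLocallyNoetherian (pullback.fst f f)
    have key : ConsProp.locusMor (fun X Y T f g => AlgebraicGeometry.UniversallyInjective f) f g =
        (((pullback.fst f f ≫ f) ≫ g) '' (Set.range (pullback.diagonal f))ᶜ)ᶜ := by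
      ext s
      simp only [ConsProp.locusMor, Set.mem_setOf_eq, Set.mem_compl_iff, Set.mem_image, not_exists,
        not_and]
      have hl := universallyInjective_snd_iff (fiberMap_isPullback f g s)
      rw [hl, g.range_fiberι]
      exact ⟨fun H z hz hzs => hz (H z (by rwa [Scheme.Hom.comp_apply] at hzs)),
        fun H z hz => by_contra fun h => H z h (by rw [Scheme.Hom.comp_apply]; exact hz)⟩
    rw [key]
    exact interior_nonempty_or (H8Lim.isLocallyConstructible_compl
      (((pullback.fst f f ≫ f) ≫ g).isLocallyConstructible_image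
        (H8Lim.isLocallyConstructible_compl (isLocallyConstructible_range_diagonal f))))

/-! ### Dimension -/

theorem exists_spec_field (T : Scheme.{u}) [IsIntegral T] [Subsingleton T] :
    ∃ (k : Type u) (_ : Field k), Nonempty (T ≅ Spec (CommRingCat.of k)) := by
  have h : IsField Γ(T, ⊤) := isField_of_isIntegral_of_subsingleton T
  exact ⟨Γ(T, ⊤), h.toField, ⟨T.isoSpec⟩⟩

theorem topologicalKrullDim_eq_of_fieldExt {e : X' ⟶ X} {g' : X' ⟶ T'} {g : X ⟶ T} {h : T' ⟶ T}
    [IsIntegral T] [Subsingleton T] [IsIntegral T'] [Subsingleton T'] [LocallyOfFiniteType g]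
    (sq : IsPullback e g' g h) : topologicalKrullDim ↥X' = topologicalKrullDim ↥X := by
  obtain ⟨k, _, ⟨ek⟩⟩ := exists_spec_field T
  obtain ⟨K, _, ⟨eK⟩⟩ := exists_spec_field T'
  obtain ⟨φ, hφ⟩ := Spec.map_surjective (eK.inv ≫ h ≫ ek.hom)
  letI : Algebra k K := φ.hom.toAlgebra
  have sq' : IsPullback e (g' ≫ eK.hom) (g ≫ ek.hom)
      (Spec.map (CommRingCat.ofHom (algebraMap k K))) :=
    sq.of_iso (Iso.refl _) (Iso.refl _) eK ek (by simp) (by simp) (by simp)
      (by rw [show CommRingCat.ofHom (algebraMap k K) = φ from rfl, hφ]; simp)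
  rw [IsHomeomorph.topologicalKrullDim_eq _ (Scheme.homeoOfIso sq'.isoPullback).isHomeomorph,
    DimLib.topologicalKrullDim_bc]

theorem isCons_dim_mem (Φ : Set (WithBot ℕ∞)) :
    ConsProp.IsCons.{u} (fun Y T g => topologicalKrullDim ↥Y ∈ Φ) := by
  refine ⟨fun Y Y' T T' g g' e h _ _ _ _ _ _ sq => ?_, fun X S u _ _ _ _ => ?_⟩
  · beta_reduce
    rw [topologicalKrullDim_eq_of_fieldExt sq]
  · have h := interior_nonempty_or
      (FlatMorDim.isLocallyConstructible_setOf_fiber_dim_eq u
        (topologicalKrullDim ↥(u.fiber (genericPoint S))))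
    have hn : (interior {y : S | topologicalKrullDim ↥(u.fiber y) =
        topologicalKrullDim ↥(u.fiber (genericPoint S))}).Nonempty := by
      rcases h with h | h
      · exact h
      · obtain ⟨y, hy⟩ := h
        exact absurd rfl (interior_subset
          ((genericPoint_specializes y).mem_open isOpen_interior hy))
    by_cases hΦ : topologicalKrullDim ↥(u.fiber (genericPoint S)) ∈ Φ
    · exact Or.inl (hn.mono (interior_mono fun y (hy : topologicalKrullDim ↥(u.fiber y) = _) =>
        show topologicalKrullDim ↥(u.fiber y) ∈ Φ by rw [hy]; exact hΦ))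
    · exact Or.inr (hn.mono (interior_mono fun y (hy : topologicalKrullDim ↥(u.fiber y) = _) =>
        show topologicalKrullDim ↥(u.fiber y) ∉ Φ by rw [hy]; exact hΦ))

end Groth.Agent.ConsPropLib
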