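import Groth.Prelude.Def_W4ega4s0809p4Pair
import Groth.Agent.H8Lim.HomDescent
import Groth.Agent.EGA43.Limit.Basic
import Groth.Agent.HenselLib.FPColim
import Groth.Agent.H8ProCons.Image
import Mathlib.CategoryTheory.Limits.Preserves.Over

/-!
# Ind-constructibility of "some morphism with property Q after a field extension" (EGA IV 9.3)
-/

set_option autoImplicit false
set_option backward.isDefEq.respectTransparency.types false

universe u

open CategoryTheory Limits AlgebraicGeometry

namespace Groth.Agent.ConsPropLib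

/-- The relation: some morphism with property `Q` exists after an extension of the base field. -/
def ExPred (Q : MorphismProperty Scheme.{u}) : ∀ ⦃X Y T : Scheme.{u}⦄, (X ⟶ T) → (Y ⟶ T) → Prop :=
  fun X Y T gX gY => ∃ (T' X' Y' : Scheme.{u}) (h : T' ⟶ T) (gX' : X' ⟶ T') (gY' : Y' ⟶ T')
    (eX : X' ⟶ X) (eY : Y' ⟶ Y), IsIntegral T' ∧ Subsingleton ↥T' ∧
      IsPullback eX gX' gX h ∧ IsPullback eY gY' gY h ∧
        ∃ g : X' ⟶ Y', g ≫ gY' = gX' ∧ Q g

theorem exists_field_point {T : Scheme.{u}} [Nonempty T] :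
    ∃ (K : Type u) (_ : Field K), Nonempty (Spec (CommRingCat.of K) ⟶ T) :=
  ⟨T.residueField (Classical.arbitrary T), inferInstance, ⟨T.fromSpecResidueField _⟩⟩

/-- Base change of a witness along a morphism from the spectrum of a field. -/
theorem exPred_baseChange {Q : MorphismProperty Scheme.{u}} [Q.IsStableUnderBaseChange]
    {X Y T T₁ X₁ Y₁ : Scheme.{u}} {gX : X ⟶ T} {gY : Y ⟶ T} {k : T₁ ⟶ T} {gX₁ : X₁ ⟶ T₁}
    {gY₁ : Y₁ ⟶ T₁} {eX : X₁ ⟶ X} {eY : Y₁ ⟶ Y}
    (hX : IsPullback eX gX₁ gX k) (hY : IsPullback eY gY₁ gY k)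
    {T' X' Y' : Scheme.{u}} {h : T' ⟶ T} {gX' : X' ⟶ T'} {gY' : Y' ⟶ T'}
    {fX : X' ⟶ X} {fY : Y' ⟶ Y} (hX' : IsPullback fX gX' gX h) (hY' : IsPullback fY gY' gY h)
    {g : X' ⟶ Y'} (hg : g ≫ gY' = gX') (hQ : Q g)
    {K : Type u} [Field K] {a : Spec (CommRingCat.of K) ⟶ T'} {b : Spec (CommRingCat.of K) ⟶ T₁}
    (hab : a ≫ h = b ≫ k) :
    ExPred Q gX₁ gY₁ := by
  have sX := IsPullback.of_hasPullback gX' a
  have sY := IsPullback.of_hasPullback gY' a
  have bX := sX.paste_horiz hX'
  have bY := sY.paste_horiz hY'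
  rw [hab] at bX bY
  let lX := hX.lift (pullback.fst gX' a ≫ fX) (pullback.snd gX' a ≫ b) (by
    rw [Category.assoc]; simpa using bX.w)
  let lY := hY.lift (pullback.fst gY' a ≫ fY) (pullback.snd gY' a ≫ b) (by
    rw [Category.assoc]; simpa using bY.w)
  have tX : IsPullback lX (pullback.snd gX' a) gX₁ b :=
    IsPullback.of_right (by rw [hX.lift_fst]; exact bX) (hX.lift_snd _ _ _) hX
  have tY : IsPullback lY (pullback.snd gY' a) gY₁ b :=
    IsPullback.of_right (by rw [hY.lift_fst]; exact bY) (hY.lift_snd _ _ _) hY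
  let g₂ : pullback gX' a ⟶ pullback gY' a :=
    pullback.lift (pullback.fst gX' a ≫ g) (pullback.snd gX' a)
      (by rw [Category.assoc, hg, pullback.condition])
  have sq : IsPullback (pullback.fst gX' a) g₂ g (pullback.fst gY' a) := by
    refine IsPullback.of_bot ?_ (pullback.lift_fst _ _ _).symm sY
    rw [hg, pullback.lift_snd]
    exact sX
  exact ⟨_, _, _, b, _, _, lX, lY, inferInstance, inferInstance, tX, tY, g₂,
    pullback.lift_snd _ _ _, Q.of_isPullback sq hQ⟩

theorem isFieldStablePair_exPred (Q : MorphismProperty Scheme.{u}) [Q.IsStableUnderBaseChange] :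
    ConsPropPair.IsFieldStablePair (ExPred Q) := by
  intro X X₁ Y Y₁ T T₁ gX gY gX₁ gY₁ eX eY k _ _ _ _ _ _ _ _ hX hY
  constructor
  · rintro ⟨T', X', Y', h, gX', gY', fX, fY, hi, hs, hX', hY', g, hg, hQ⟩
    obtain ⟨w, -, -⟩ := Scheme.Pullback.exists_preimage_pullback (f := h) (g := k)
      (Classical.arbitrary T') (Classical.arbitrary T₁) (Subsingleton.elim _ _)
    exact exPred_baseChange hX hY hX' hY' hg hQ
      (a := (pullback h k).fromSpecResidueField w ≫ pullback.fst h k)
      (b := (pullback h k).fromSpecResidueField w ≫ pullback.snd h k)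
      (by rw [Category.assoc, Category.assoc, pullback.condition])
  · rintro ⟨T', X', Y', h, gX', gY', fX, fY, hi, hs, hX', hY', g, hg, hQ⟩
    exact ⟨T', X', Y', h ≫ k, gX', gY', fX ≫ eX, fY ≫ eY, hi, hs, hX'.paste_horiz hX,
      hY'.paste_horiz hY, g, hg, hQ⟩

/-- A witness over any point above `s` gives the relation at `s`. -/
theorem mem_locusPair_of_witness {Q : MorphismProperty Scheme.{u}} [Q.IsStableUnderBaseChange]
    {X Y S X' Y' W : Scheme.{u}} (u : X ⟶ S) (v : Y ⟶ S) {t : W ⟶ S}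
    {gX' : X' ⟶ W} {gY' : Y' ⟶ W} {fX : X' ⟶ X} {fY : Y' ⟶ Y}
    (hX' : IsPullback fX gX' u t) (hY' : IsPullback fY gY' v t)
    {g : X' ⟶ Y'} (hg : g ≫ gY' = gX') (hQ : Q g) (w : W) :
    t w ∈ ConsPropPair.locusPair (ExPred Q) u v :=
  exPred_baseChange (K := W.residueField w) (IsPullback.of_hasPullback u (S.fromSpecResidueField (t w)))
    (IsPullback.of_hasPullback v (S.fromSpecResidueField (t w))) hX' hY' hg hQ
    (a := W.fromSpecResidueField w) (b := Spec.map (t.residueFieldMap w))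
    (Scheme.Hom.SpecMap_residueFieldMap_fromSpecResidueField t w).symm

/-- The descent hypothesis for `Q` along limits of noetherian affine schemes. -/
def DescendsNoeth (Q : MorphismProperty Scheme.{u}) : Prop :=
  ∀ ⦃I : Type u⦄ [SmallCategory I] [IsCofiltered I] (D : I ⥤ Scheme.{u}) (c : Cone D) (_ : IsLimit c)
    [∀ (i j : I) (a : i ⟶ j), IsAffineHom (D.map a)] (i₀ : I) [IsAffine (D.obj i₀)]
    ⦃X₀ Y₀ : Scheme.{u}⦄ (f₀ : X₀ ⟶ Y₀) (g₀ : Y₀ ⟶ D.obj i₀) [IsNoetherian X₀] [IsNoetherian Y₀]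
    [LocallyOfFinitePresentation f₀] [QuasiCompact f₀] [QuasiSeparated f₀]
    [QuasiCompact g₀] [QuasiSeparated g₀]
    ⦃X Y : Scheme.{u}⦄ (f : X ⟶ Y) (g : Y ⟶ c.pt) (qY : Y ⟶ Y₀) (qX : X ⟶ X₀),
    IsPullback qY g g₀ (c.π.app i₀) → IsPullback qX f f₀ qY → Q f →
    ∃ (i : I) (φ : i ⟶ i₀) (Xi Yi : Scheme.{u}) (fi : Xi ⟶ Yi) (gi : Yi ⟶ D.obj i) (pY : Yi ⟶ Y₀)
      (pX : Xi ⟶ X₀), IsPullback pY gi g₀ (D.map φ) ∧ IsPullback pX fi f₀ pY ∧ Q fi

theorem isNoetherian_of_lft {X S : Scheme.{u}} (f : X ⟶ S) [IsNoetherian S] [LocallyOfFiniteType f]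
    [QuasiCompact f] : IsNoetherian X := by
  have := LocallyOfFiniteType.isLocallyNoetherian f
  have : CompactSpace X := QuasiCompact.compactSpace_of_compactSpace f
  exact ⟨⟩

/-- The spectrum of a field over a noetherian affine is a limit of finite type schemes over it. -/
theorem exists_fp_system (A K : Type u) [CommRing A] [IsNoetherianRing A] [Field K] [Algebra A K] :
    ∃ (I : Type u) (_ : SmallCategory I) (_ : IsCofiltered I) (D : I ⥤ Scheme.{u}) (c : Cone D)
      (_ : IsLimit c) (e : c.pt ⟶ Spec (CommRingCat.of K)) (t : ∀ i, D.obj i ⟶ Spec (CommRingCat.of A)),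
      IsIso e ∧ (∀ i, IsAffine (D.obj i) ∧ IsNoetherian (D.obj i) ∧ LocallyOfFinitePresentation (t i)) ∧
      (∀ i, c.π.app i ≫ t i = e ≫ Spec.map (CommRingCat.ofHom (algebraMap A K))) ∧
      ∀ ⦃i j⦄ (f : i ⟶ j), D.map f ≫ t j = t i := by
  have hfilt := HenselLib.FPColim.isFiltered (A := A) (B := K)
  obtain ⟨hcol⟩ := HenselLib.FPColim.exists_isColimit (A := A) (B := K)
  let F := HenselLib.FPColim.diagram A K ⋙ Under.forget (CommRingCat.of A)
  let D : (HenselLib.FPColim.Obj A K)ᵒᵖ ⥤ Scheme.{u} := F.op ⋙ Scheme.Spec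
  let c : Cone D :=
    Scheme.Spec.mapCone ((Under.forget (CommRingCat.of A)).mapCocone (HenselLib.FPColim.cocone A K)).op
  have : IsConnected (HenselLib.FPColim.Obj A K)ᵒᵖ := IsCofiltered.isConnected _
  have hc : IsLimit c :=
    isLimitOfPreserves Scheme.Spec (isColimitOfPreserves (Under.forget (CommRingCat.of A)) hcol).op
  refine ⟨_, inferInstance, inferInstance, D, c, hc, 𝟙 (Spec (CommRingCat.of K)),
    fun i => Spec.map (CommRingCat.ofHom (algebraMap A i.unop.R)), inferInstanceAs (IsIso (𝟙 _)),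
    fun i => ?_, fun i => ?_, fun i j f => ?_⟩
  · have : Algebra.FinitePresentation A i.unop.R := Algebra.FinitePresentation.quotient i.unop.fg
    have : IsNoetherianRing i.unop.R := Algebra.FiniteType.isNoetherianRing A _
    refine ⟨inferInstanceAs (IsAffine (Spec (CommRingCat.of i.unop.R))),
      inferInstanceAs (IsNoetherian (Spec (CommRingCat.of i.unop.R))), ?_⟩
    rw [HasRingHomProperty.Spec_iff (P := @LocallyOfFinitePresentation.{u})]
    exact (RingHom.finitePresentation_algebraMap (A := A) (B := i.unop.R)).2 inferInstance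
  · show Spec.map (CommRingCat.ofHom i.unop.ev.toRingHom) ≫ Spec.map _ = 𝟙 _ ≫ _
    rw [Category.id_comp, ← Spec.map_comp]
    congr 1
    exact CommRingCat.hom_ext i.unop.ev.comp_algebraMap
  · show Spec.map (CommRingCat.ofHom f.unop.1.toRingHom) ≫ Spec.map _ = Spec.map _
    rw [← Spec.map_comp]
    congr 1
    exact CommRingCat.hom_ext f.unop.1.comp_algebraMap

/-- Spreading of a witness at a point `η` to the image of a finite type scheme. -/
theorem exists_spread {Q : MorphismProperty Scheme.{u}} [Q.IsStableUnderBaseChange]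
    (hQd : DescendsNoeth Q) {X Y S : Scheme.{u}} [IsNoetherian S] (u : X ⟶ S) (v : Y ⟶ S)
    [LocallyOfFiniteType u] [QuasiCompact u] [LocallyOfFiniteType v] [QuasiCompact v]
    {η : S} (h : η ∈ ConsPropPair.locusPair (ExPred Q) u v) :
    ∃ E : Set S, Topology.IsLocallyConstructible E ∧ η ∈ E ∧
      E ⊆ ConsPropPair.locusPair (ExPred Q) u v := by
  obtain ⟨T', X', Y', h', gX', gY', fX, fY, hi, hs, hX', hY', g, hg, hQ⟩ := h
  have tX := hX'.paste_horiz (IsPullback.of_hasPullback u (S.fromSpecResidueField η))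
  have tY := hY'.paste_horiz (IsPullback.of_hasPullback v (S.fromSpecResidueField η))
  obtain ⟨K, _, ⟨a₀⟩⟩ := exists_field_point (T := T')
  -- an affine neighbourhood
  obtain ⟨U, hU, hηU, -⟩ := exists_isAffineOpen_mem_and_subset (x := η) (U := ⊤) trivial
  have hkη : ∀ p, (a₀ ≫ h' ≫ S.fromSpecResidueField η) p = η := fun p => by
    rw [Scheme.Hom.comp_apply, Scheme.Hom.comp_apply]
    exact S.fromSpecResidueField_apply η _
  have hkU : Set.range (a₀ ≫ h' ≫ S.fromSpecResidueField η) ⊆ Set.range U.ι := by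
    rintro _ ⟨p, rfl⟩
    rw [Scheme.Opens.range_ι, hkη]
    exact hηU
  obtain ⟨φ, hφ⟩ := Spec.map_surjective (IsOpenImmersion.lift U.ι _ hkU ≫ hU.isoSpec.hom)
  have hk : Spec.map φ ≫ hU.fromSpec = a₀ ≫ h' ≫ S.fromSpecResidueField η := by
    rw [hφ, ← hU.isoSpec_inv_ι, Category.assoc, Iso.hom_inv_id_assoc, IsOpenImmersion.lift_fac]
  letI : Algebra Γ(S, U) K := φ.hom.toAlgebra
  have : IsNoetherianRing Γ(S, U) := IsLocallyNoetherian.component_noetherian ⟨U, hU⟩
  obtain ⟨I, _, _, D, c, hc, e, t₀, he, hobj, htπ₀, htm₀⟩ := exists_fp_system Γ(S, U) K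
  let t : ∀ i, D.obj i ⟶ S := fun i => t₀ i ≫ hU.fromSpec
  let a : c.pt ⟶ T' := e ≫ a₀
  have htπ : ∀ i, c.π.app i ≫ t i = a ≫ h' ≫ S.fromSpecResidueField η := fun i => by
    simp only [t, a, Category.assoc, ← hk]
    rw [← Category.assoc, htπ₀, Category.assoc]
    rfl
  have htm : ∀ {i j} (f : i ⟶ j), D.map f ≫ t j = t i := fun {i j} f => by
    simp only [t]
    rw [← Category.assoc, htm₀]
  have haff : ∀ (i j : I) (f : i ⟶ j), IsAffineHom (D.map f) := fun i j f => by
    have := (hobj i).1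
    have := (hobj j).1
    infer_instance
  let qX : pullback gX' a ⟶ X := pullback.fst gX' a ≫ (fX ≫ pullback.fst u (S.fromSpecResidueField η))
  let qY : pullback gY' a ⟶ Y := pullback.fst gY' a ≫ (fY ≫ pullback.fst v (S.fromSpecResidueField η))
  have hXK : IsPullback qX (pullback.snd gX' a) u (a ≫ h' ≫ S.fromSpecResidueField η) :=
    (IsPullback.of_hasPullback gX' a).paste_horiz tX
  have hYK : IsPullback qY (pullback.snd gY' a) v (a ≫ h' ≫ S.fromSpecResidueField η) :=
    (IsPullback.of_hasPullback gY' a).paste_horiz tY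
  let gK : pullback gX' a ⟶ pullback gY' a :=
    pullback.lift (pullback.fst gX' a ≫ g) (pullback.snd gX' a)
      (by rw [Category.assoc, hg, pullback.condition])
  have hgK : gK ≫ pullback.snd gY' a = pullback.snd gX' a := pullback.lift_snd _ _ _
  have hQK : Q gK := by
    refine Q.of_isPullback (IsPullback.of_bot ?_ (pullback.lift_fst _ _ _).symm
      (IsPullback.of_hasPullback gY' a)) hQ
    rw [hg, hgK]
    exact IsPullback.of_hasPullback gX' a
  have hnoethR : ∀ i : I, IsNoetherian (D.obj i) := fun i => (hobj i).2.1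
  clear_value gK qX qY
  obtain ⟨i⟩ := IsCofiltered.nonempty (C := I)
  -- base changes to the stage
  have eX : pullback.snd gX' a ≫ c.π.app i ≫ t i = qX ≫ u := by rw [htπ]; exact hXK.w.symm
  have eY : pullback.snd gY' a ≫ c.π.app i ≫ t i = qY ≫ v := by rw [htπ]; exact hYK.w.symm
  let rX : pullback gX' a ⟶ pullback u (t i) :=
    pullback.lift qX (pullback.snd gX' a ≫ c.π.app i) (by rw [Category.assoc]; exact eX.symm)
  let rY : pullback gY' a ⟶ pullback v (t i) :=
    pullback.lift qY (pullback.snd gY' a ≫ c.π.app i) (by rw [Category.assoc]; exact eY.symm)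
  have hX₀ : IsPullback rX (pullback.snd gX' a) (pullback.snd u (t i)) (c.π.app i) :=
    IsPullback.of_right (by simp only [rX, pullback.lift_fst, htπ]; exact hXK)
      (pullback.lift_snd _ _ _) (IsPullback.of_hasPullback u (t i))
  have hY₀ : IsPullback rY (pullback.snd gY' a) (pullback.snd v (t i)) (c.π.app i) :=
    IsPullback.of_right (by simp only [rY, pullback.lift_fst, htπ]; exact hYK)
      (pullback.lift_snd _ _ _) (IsPullback.of_hasPullback v (t i))
  have := hnoethR i
  have hXn : IsNoetherian (pullback u (t i)) := isNoetherian_of_lft (pullback.snd u (t i))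
  obtain ⟨j, ψ, gj, sj, hgj, hsj1, hsj2, hsj3⟩ := H8Lim.exists_stage_hom (D := D) hc hX₀
    (yi := pullback.snd v (t i)) (gK ≫ rY) (by
      rw [Category.assoc, hY₀.w, reassoc_of% hgK, hX₀.w])
  let Xj := pullback (pullback.snd u (t i)) (D.map ψ)
  let Yj := pullback (pullback.snd v (t i)) (D.map ψ)
  let g₁ : Xj ⟶ Yj := pullback.lift gj (pullback.snd _ _) (by rw [hgj, pullback.condition])
  have hg₁ : g₁ ≫ pullback.snd (pullback.snd v (t i)) (D.map ψ) = pullback.snd (pullback.snd u (t i)) (D.map ψ) :=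
    pullback.lift_snd _ _ _
  let rYj : pullback gY' a ⟶ Yj :=
    pullback.lift rY (pullback.snd gY' a ≫ c.π.app j) (by rw [hY₀.w, Category.assoc, c.w])
  have hYj : IsPullback rYj (pullback.snd gY' a) (pullback.snd (pullback.snd v (t i)) (D.map ψ))
      (c.π.app j) :=
    IsPullback.of_right (by simp only [rYj, pullback.lift_fst, c.w]; exact hY₀)
      (pullback.lift_snd _ _ _) (IsPullback.of_hasPullback _ _)
  have hXj : IsPullback sj (pullback.snd gX' a) (pullback.snd (pullback.snd u (t i)) (D.map ψ))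
      (c.π.app j) :=
    IsPullback.of_right (by rw [hsj1, c.w]; exact hX₀) hsj2 (IsPullback.of_hasPullback _ _)
  have hsq : IsPullback sj gK g₁ rYj := by
    refine IsPullback.of_bot ?_ ?_ hYj
    · rw [hg₁, hgK]; exact hXj
    · apply pullback.hom_ext
      · simp only [g₁, rYj, Category.assoc, pullback.lift_fst, hsj3]
      · simp only [g₁, rYj, Category.assoc, pullback.lift_snd, hsj2, reassoc_of% hgK]
  have := hnoethR j
  have hXjn : IsNoetherian Xj :=
    isNoetherian_of_lft (pullback.snd (pullback.snd u (t i)) (D.map ψ))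
  have hYjn : IsNoetherian Yj :=
    isNoetherian_of_lft (pullback.snd (pullback.snd v (t i)) (D.map ψ))
  have := (hobj j).1
  have : LocallyOfFiniteType (g₁ ≫ pullback.snd (pullback.snd v (t i)) (D.map ψ)) := by
    rw [hg₁]; infer_instance
  have : LocallyOfFiniteType g₁ := locallyOfFiniteType_of_comp g₁ (pullback.snd (pullback.snd v (t i)) (D.map ψ))
  obtain ⟨l, θ, Xl, Yl, fl, gl, pY, pX, hYl, hXl, hQl⟩ :=
    hQd D c hc j g₁ _ gK _ rYj sj hYj hsq hQK
  have wX : IsPullback (pX ≫ pullback.fst _ _ ≫ pullback.fst u (t i)) (fl ≫ gl) u (t l) := by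
    have h1 := hXl.paste_vert hYl
    rw [hg₁] at h1
    have h2 := (h1.paste_horiz (IsPullback.of_hasPullback _ (D.map ψ))).paste_horiz
      (IsPullback.of_hasPullback u (t i))
    rw [show (D.map θ ≫ D.map ψ) ≫ t i = t l by rw [← D.map_comp, htm]] at h2
    simpa only [Category.assoc] using h2
  have wY : IsPullback (pY ≫ pullback.fst _ _ ≫ pullback.fst v (t i)) gl v (t l) := by
    have h2 := (hYl.paste_horiz (IsPullback.of_hasPullback _ (D.map ψ))).paste_horiz
      (IsPullback.of_hasPullback v (t i))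
    rw [show (D.map θ ≫ D.map ψ) ≫ t i = t l by rw [← D.map_comp, htm]] at h2
    simpa only [Category.assoc] using h2
  have := (hobj l).2.2
  have : LocallyOfFinitePresentation (t l) := inferInstanceAs (LocallyOfFinitePresentation (_ ≫ _))
  have : QuasiCompact (t l) := by
    have := hnoethR l
    infer_instance
  refine ⟨Set.range (t l), ?_, ⟨c.π.app l (inv e (default : Spec (CommRingCat.of K))), ?_⟩, ?_⟩
  · rw [← Set.image_univ]
    exact (t l).isLocallyConstructible_image Topology.IsLocallyConstructible.univ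
  · rw [← Scheme.Hom.comp_apply, htπ]
    simp only [a, Scheme.Hom.comp_apply]
    exact S.fromSpecResidueField_apply η _
  · rintro _ ⟨w, rfl⟩
    exact mem_locusPair_of_witness u v wX wY rfl hQl w

/-- The engine: the relation "after an extension some morphism with `Q`" is ind-constructible. -/
theorem isIndConsPair_exPred (Q : MorphismProperty Scheme.{u}) [Q.IsStableUnderBaseChange]
    (hQd : DescendsNoeth Q) : ConsPropPair.IsIndConsPair (ExPred Q) := by
  refine ⟨isFieldStablePair_exPred Q, fun X Y S u v _ _ _ _ _ _ hη => ?_⟩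
  obtain ⟨E, hE, hηE, hsub⟩ := exists_spread hQd u v hη
  refine ⟨genericPoint S, interior_mono hsub ?_⟩
  rw [H8ProCons.mem_interior_iff (H8ProCons.isLocallyConstructible_iff_ind_and_pro.1 hE).1]
  intro x hx
  rwa [((genericPoint_specializes x).antisymm hx).eq] at hηE

end Groth.Agent.ConsPropLib
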