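import Groth.Agent.ConsPropLib.PairExists
import Groth.Agent.EGA43.Limit.Immersions
import Groth.Agent.EGA43.Limit.QuasiAffine
import Groth.Agent.H8Lim.DescentProper

/-!
# The properties to which the engine of EGA IV 9.3 for pairs applies
-/

set_option autoImplicit false
set_option backward.isDefEq.respectTransparency.types false

universe u

open CategoryTheory Limits AlgebraicGeometry

namespace Groth.Agent.ConsPropLib

theorem descendsNoeth_of_descends {Qh Q : MorphismProperty Scheme.{u}} [Qh.RespectsIso] [Q.RespectsIso]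
    (h : EGA43.Limit.Descends Qh Q)
    (hlfp : ∀ {A B : Scheme.{u}} (f : A ⟶ B), LocallyOfFinitePresentation f → Qh f) : DescendsNoeth Q := by
  intro I _ _ D c hc _ i₀ _ X₀ Y₀ f₀ g₀ _ _ _ _ _ _ _ X Y f g qY qX hY hX hf
  exact h.stage_exists hc f₀ g₀ (hlfp f₀ inferInstance) hY hX hf

theorem descendsNoeth_of_descends₃ {Qh Q : MorphismProperty Scheme.{u}} [Qh.IsStableUnderBaseChange]
    (h : H8Lim.Descends Qh Q Q)
    (hlfp : ∀ {A B : Scheme.{u}} (f : A ⟶ B), LocallyOfFinitePresentation f → Qh f) : DescendsNoeth Q := by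
  intro I _ _ D c hc _ i₀ _ X₀ Y₀ f₀ g₀ _ _ _ _ _ _ _ X Y f g qY qX hY hX hf
  exact h.exists_stage hc hY hX (hlfp f₀ inferInstance) hf

/-- Quasi-finite morphisms. -/
abbrev quasiFin : MorphismProperty Scheme.{u} :=
  fun _ _ f => LocallyOfFiniteType f ∧ QuasiCompact f ∧ LocallyQuasiFinite f

instance : (quasiFin.{u}).IsStableUnderBaseChange where
  of_isPullback h hf := ⟨MorphismProperty.of_isPullback h hf.1, MorphismProperty.of_isPullback h hf.2.1,
    MorphismProperty.of_isPullback h hf.2.2⟩

theorem descendsNoeth_quasiFin : DescendsNoeth quasiFin.{u} := by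
  intro I _ _ D c hc _ i₀ _ X₀ Y₀ f₀ g₀ _ _ _ _ _ _ _ X Y f g qY qX hY hX hf
  obtain ⟨i, φ, Xi, Yi, fi, gi, pY, pX, h₁, h₂, h₃⟩ :=
    (EGA43.Limit.descends_locallyQuasiFinite).stage_exists hc f₀ g₀ inferInstance hY hX hf.2.2
  have hlft : LocallyOfFiniteType f₀ := inferInstance
  exact ⟨i, φ, Xi, Yi, fi, gi, pY, pX, h₁, h₂, MorphismProperty.of_isPullback h₂ hlft,
    MorphismProperty.of_isPullback h₂ ‹QuasiCompact f₀›, h₃⟩

theorem lfp_lft {A B : Scheme.{u}} (f : A ⟶ B) (_ : LocallyOfFinitePresentation f) :
    LocallyOfFiniteType f := inferInstance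

theorem descendsNoeth_iso : DescendsNoeth (MorphismProperty.isomorphisms Scheme.{u}) :=
  descendsNoeth_of_descends EGA43.Limit.descends_iso fun _ h => h

theorem descendsNoeth_isClosedImmersion : DescendsNoeth @IsClosedImmersion.{u} :=
  descendsNoeth_of_descends EGA43.Limit.descends_isClosedImmersion lfp_lft

theorem descendsNoeth_isOpenImmersion : DescendsNoeth @IsOpenImmersion.{u} :=
  descendsNoeth_of_descends EGA43.Limit.descends_isOpenImmersion fun _ h => h

theorem descendsNoeth_surjective : DescendsNoeth @Surjective.{u} :=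
  descendsNoeth_of_descends EGA43.Limit.descends_surjective fun _ h => h

theorem descendsNoeth_isFinite : DescendsNoeth @IsFinite.{u} :=
  descendsNoeth_of_descends₃ H8Lim.descends_isFinite lfp_lft

theorem descendsNoeth_isAffineHom : DescendsNoeth @IsAffineHom.{u} :=
  descendsNoeth_of_descends EGA43.Limit.descends_isAffineHom fun _ _ => trivial

theorem descendsNoeth_universallyInjective : DescendsNoeth @UniversallyInjective.{u} :=
  descendsNoeth_of_descends EGA43.Limit.descends_universallyInjective lfp_lft

theorem descendsNoeth_isImmersion : DescendsNoeth @IsImmersion.{u} :=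
  descendsNoeth_of_descends EGA43.Limit.descends_isImmersion lfp_lft

theorem descendsNoeth_mono : DescendsNoeth (MorphismProperty.monomorphisms Scheme.{u}) :=
  descendsNoeth_of_descends EGA43.Limit.descends_mono lfp_lft

theorem descendsNoeth_isSeparated : DescendsNoeth @IsSeparated.{u} :=
  descendsNoeth_of_descends EGA43.Limit.descends_isSeparated fun _ _ => trivial

theorem descendsNoeth_isProper : DescendsNoeth @IsProper.{u} :=
  descendsNoeth_of_descends₃ H8Lim.descends_isProper lfp_lft

theorem descendsNoeth_quasiAffine : DescendsNoeth EGA43.Limit.quasiAffine.{u} :=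
  descendsNoeth_of_descends EGA43.Limit.descends_quasiAffine fun _ _ => trivial

end Groth.Agent.ConsPropLib
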